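import Mathlib
import Cfsg.Prelude.Def_LieExceptional

/-!
# Abstract (B, N)-pairs

The combinatorics of a Tits system, worked out at the level of representatives in `N`:
double cosets `P.B n P.B`, the length function, the exchange condition and parabolic subgroups.
-/

set_option autoImplicit false

open scoped Pointwise

namespace CfsgLib.Lie.BN

open Cfsg

variable {G : Type*} [Group G] (P : Cfsg.BNPair G)

/-- the double coset of `n` -/
def cell (n : G) : Set G := DoubleCoset.doubleCoset n (P.B : Set G) P.B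

theorem mem_cell {n x : G} : x ∈ cell P n ↔ ∃ b ∈ P.B, ∃ c ∈ P.B, x = b * n * c :=
  DoubleCoset.mem_doubleCoset

theorem mem_cell_self (n : G) : n ∈ cell P n := DoubleCoset.mem_doubleCoset_self _ _ n

theorem cell_eq_of_mem {n x : G} (h : x ∈ cell P n) : cell P x = cell P n :=
  DoubleCoset.doubleCoset_eq_of_mem h

theorem cell_mul_left {n x b : G} (hb : b ∈ P.B) (h : x ∈ cell P n) : b * x ∈ cell P n := by
  obtain ⟨b1, h1, c1, h2, rfl⟩ := (mem_cell P).1 h
  exact (mem_cell P).2 ⟨b * b1, P.B.mul_mem hb h1, c1, h2, by group⟩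

theorem cell_mul_right {n x b : G} (hb : b ∈ P.B) (h : x ∈ cell P n) : x * b ∈ cell P n := by
  obtain ⟨b1, h1, c1, h2, rfl⟩ := (mem_cell P).1 h
  exact (mem_cell P).2 ⟨b1, h1, c1 * b, P.B.mul_mem h2 hb, by group⟩

theorem cell_inv {n x : G} (h : x ∈ cell P n) : x⁻¹ ∈ cell P n⁻¹ := by
  obtain ⟨b1, h1, c1, h2, rfl⟩ := (mem_cell P).1 h
  exact (mem_cell P).2 ⟨c1⁻¹, P.B.inv_mem h2, b1⁻¹, P.B.inv_mem h1, by group⟩

theorem cell_congr {n m : G} (h : n⁻¹ * m ∈ P.B) : cell P n = cell P m := by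
  apply (cell_eq_of_mem P _).symm
  exact (mem_cell P).2 ⟨1, P.B.one_mem, _, h, by group⟩

theorem cell_eq_of_mem_of_mem {n m x : G} (h : x ∈ cell P n) (h' : x ∈ cell P m) :
    cell P n = cell P m := (cell_eq_of_mem P h).symm.trans (cell_eq_of_mem P h')

theorem cell_one {x : G} : x ∈ cell P 1 ↔ x ∈ P.B := by
  constructor
  · intro h
    obtain ⟨b1, h1, c1, h2, rfl⟩ := (mem_cell P).1 h
    simpa using P.B.mul_mem h1 h2
  · intro h
    exact (mem_cell P).2 ⟨x, h, 1, P.B.one_mem, by group⟩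

theorem cell_of_mem_B {n x : G} (hn : n ∈ P.B) : x ∈ cell P n ↔ x ∈ P.B := by
  rw [← cell_congr P (n := 1) (m := n) (by simpa using hn)]
  exact cell_one P

/-! ### elements of `N` and words -/

theorem S_mem {s : G} (hs : s ∈ P.S) : s ∈ P.N := P.subset hs

theorem T_conj {n t : G} (hn : n ∈ P.N) (ht : t ∈ P.B ⊓ P.N) : n⁻¹ * t * n ∈ P.B := by
  simpa using P.conj_mem n⁻¹ (P.N.inv_mem hn) t ht

theorem T_conj' {n t : G} (hn : n ∈ P.N) (ht : t ∈ P.B ⊓ P.N) : n * t * n⁻¹ ∈ P.B :=
  P.conj_mem n hn t ht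

theorem sq_mem_T {s : G} (hs : s ∈ P.S) : s * s ∈ P.B ⊓ P.N :=
  ⟨P.sq_mem s hs, P.N.mul_mem (S_mem P hs) (S_mem P hs)⟩

theorem not_mem_B {s : G} (hs : s ∈ P.S) : s ∉ P.B := by
  intro h
  apply P.conj_ne s hs
  ext x
  constructor
  · rintro ⟨b, hb, rfl⟩
    exact P.B.mul_mem (P.B.mul_mem h hb) h
  · intro hx
    exact ⟨s⁻¹ * x * s⁻¹, P.B.mul_mem (P.B.mul_mem (P.B.inv_mem h) hx) (P.B.inv_mem h), by group⟩

/-- equality modulo `B ⊓ N` -/
def Eqv (n m : G) : Prop := n⁻¹ * m ∈ P.B

theorem Eqv.refl (n : G) : Eqv P n n := by simp [Eqv, P.B.one_mem]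

variable {P}

theorem Eqv.symm {n m : G} (h : Eqv P n m) : Eqv P m n := by
  have h1 := P.B.inv_mem h
  simpa [Eqv, mul_inv_rev] using h1

theorem Eqv.trans {n m k : G} (h : Eqv P n m) (h' : Eqv P m k) : Eqv P n k := by
  have h1 := P.B.mul_mem h h'
  simpa [Eqv, mul_assoc] using h1

theorem Eqv.mul_left {n m : G} (c : G) (h : Eqv P n m) : Eqv P (c * n) (c * m) := by
  simpa [Eqv, mul_assoc] using h

theorem Eqv.mul_right {n m c : G} (hn : n ∈ P.N) (hm : m ∈ P.N) (hc : c ∈ P.N) (h : Eqv P n m) :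
    Eqv P (n * c) (m * c) := by
  have h1 := T_conj P hc (t := n⁻¹ * m) ⟨h, P.N.mul_mem (P.N.inv_mem hn) hm⟩
  simpa [Eqv, mul_assoc] using h1

theorem Eqv.cell_eq {n m : G} (h : Eqv P n m) : cell P n = cell P m := cell_congr P h

variable (P)

theorem Eqv_sq {s n : G} (hs : s ∈ P.S) (hn : n ∈ P.N) : Eqv P (s * (s * n)) n := by
  have h1 : n⁻¹ * (s * s) * n ∈ P.B := T_conj P hn (sq_mem_T P hs)
  have h2 := P.B.inv_mem h1
  simpa [Eqv, mul_assoc] using h2

theorem Eqv_sq_right {s n : G} (hs : s ∈ P.S) : Eqv P (n * s * s) n := by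
  have h2 := P.B.inv_mem (P.sq_mem s hs)
  simpa [Eqv, mul_assoc] using h2

/-- words in the distinguished generators -/
def IsWord (l : List G) : Prop := ∀ x ∈ l, x ∈ P.S

theorem IsWord.mem_N : ∀ {l : List G}, IsWord P l → l.prod ∈ P.N
  | [], _ => by simpa using P.N.one_mem
  | x :: l, h => by
    rw [List.prod_cons]
    exact P.N.mul_mem (S_mem P (h x (by simp))) (IsWord.mem_N fun y hy => h y (by simp [hy]))

theorem exists_word {n : G} (hn : n ∈ P.N) : ∃ l, IsWord P l ∧ Eqv P n l.prod := by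
  let K : Subgroup G :=
  { carrier := {n | n ∈ P.N ∧ ∀ m ∈ P.N, (∃ l, IsWord P l ∧ Eqv P m l.prod) ↔ ∃ l, IsWord P l ∧ Eqv P (n * m) l.prod}
    mul_mem' := by
      rintro a b ⟨ha, ha'⟩ ⟨hb, hb'⟩
      refine ⟨P.N.mul_mem ha hb, fun m hm => ?_⟩
      rw [hb' m hm, ha' (b * m) (P.N.mul_mem hb hm), mul_assoc]
    one_mem' := ⟨P.N.one_mem, fun m _ => by simp⟩
    inv_mem' := by
      rintro a ⟨ha, ha'⟩
      refine ⟨P.N.inv_mem ha, fun m hm => ?_⟩
      rw [ha' (a⁻¹ * m) (P.N.mul_mem (P.N.inv_mem ha) hm), mul_inv_cancel_left] }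
  have hK : P.N ≤ K := by
    rw [← P.closure_sup]
    refine sup_le ((Subgroup.closure_le _).2 fun s hs => ⟨S_mem P hs, fun m hm => ⟨?_, ?_⟩⟩)
      (fun t ht => ⟨(show t ∈ P.B ⊓ P.N from ht).2, fun m hm => ⟨?_, ?_⟩⟩)
    · rintro ⟨l, hl, h⟩
      refine ⟨s :: l, fun y hy => ?_, by simpa using Eqv.mul_left s h⟩
      rcases List.mem_cons.1 hy with rfl | hy
      · exact hs
      · exact hl y hy
    · rintro ⟨l, hl, h⟩
      refine ⟨s :: l, fun y hy => ?_, (Eqv_sq P hs hm).symm.trans (by simpa using Eqv.mul_left s h)⟩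
      rcases List.mem_cons.1 hy with rfl | hy
      · exact hs
      · exact hl y hy
    · rintro ⟨l, hl, h⟩
      refine ⟨l, hl, Eqv.trans ?_ h⟩
      have h1 := P.B.inv_mem (T_conj P hm ht)
      simpa [Eqv, mul_assoc] using h1
    · rintro ⟨l, hl, h⟩
      refine ⟨l, hl, Eqv.trans ?_ h⟩
      have h1 := T_conj P hm ht
      simpa [Eqv, mul_assoc] using h1
  simpa using ((hK hn).2 1 P.N.one_mem).1 ⟨[], by simp [IsWord], by simpa using Eqv.refl P 1⟩

open Classical in
/-- the length of the image of `n` in `N / (B ⊓ N)` -/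
noncomputable def len (n : G) : ℕ :=
  if h : ∃ k, ∃ l, IsWord P l ∧ l.length = k ∧ Eqv P n l.prod then Nat.find h else 0

theorem len_spec {n : G} (hn : n ∈ P.N) :
    ∃ l, IsWord P l ∧ l.length = len P n ∧ Eqv P n l.prod := by
  classical
  have h : ∃ k, ∃ l, IsWord P l ∧ l.length = k ∧ Eqv P n l.prod := by
    obtain ⟨l, h1, h2⟩ := exists_word P hn
    exact ⟨_, l, h1, rfl, h2⟩
  rw [len, dif_pos h]
  exact Nat.find_spec h

theorem len_le {n : G} {l : List G} (h1 : IsWord P l) (h2 : Eqv P n l.prod) :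
    len P n ≤ l.length := by
  classical
  rw [len, dif_pos ⟨_, l, h1, rfl, h2⟩]
  exact Nat.find_le ⟨l, h1, rfl, h2⟩

theorem len_congr {n m : G} (hn : n ∈ P.N) (hm : m ∈ P.N) (h : Eqv P n m) : len P n = len P m := by
  obtain ⟨l, h1, h2, h3⟩ := len_spec P hn
  obtain ⟨l', h1', h2', h3'⟩ := len_spec P hm
  have a := len_le P h1 (h.symm.trans h3)
  have b := len_le P h1' (h.trans h3')
  omega

theorem len_eq_zero {n : G} (hn : n ∈ P.N) : len P n = 0 ↔ n ∈ P.B := by
  constructor
  · intro h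
    obtain ⟨l, _, h2, h3⟩ := len_spec P hn
    rw [h, List.length_eq_zero_iff] at h2
    subst h2
    simpa [Eqv] using h3
  · intro h
    have := len_le P (n := n) (l := []) (by simp [IsWord]) (by simpa [Eqv] using h)
    simpa using this

theorem len_mul_S_le {n s : G} (hn : n ∈ P.N) (hs : s ∈ P.S) : len P (s * n) ≤ len P n + 1 := by
  obtain ⟨l, h1, h2, h3⟩ := len_spec P hn
  have := len_le P (n := s * n) (l := s :: l) (fun y hy => by
    rcases List.mem_cons.1 hy with rfl | hy
    · exact hs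
    · exact h1 y hy) (by simpa using Eqv.mul_left s h3)
  simpa [h2] using this

theorem len_le_mul_S {n s : G} (hn : n ∈ P.N) (hs : s ∈ P.S) : len P n ≤ len P (s * n) + 1 := by
  have h := len_mul_S_le P (n := s * n) (P.N.mul_mem (S_mem P hs) hn) hs
  rwa [len_congr P (P.N.mul_mem (S_mem P hs) (P.N.mul_mem (S_mem P hs) hn)) hn (Eqv_sq P hs hn)] at h

theorem len_mul_right_le {n s : G} (hn : n ∈ P.N) (hs : s ∈ P.S) : len P (n * s) ≤ len P n + 1 := by
  obtain ⟨l, h1, h2, h3⟩ := len_spec P hn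
  have := len_le P (n := n * s) (l := l ++ [s]) (fun y hy => by
    rcases List.mem_append.1 hy with hy | hy
    · exact h1 y hy
    · simp at hy; exact hy ▸ hs)
    (by simpa using Eqv.mul_right hn (IsWord.mem_N P h1) (S_mem P hs) h3)
  simpa [h2] using this

theorem len_simple {s : G} (hs : s ∈ P.S) : len P s = 1 := by
  have h1 := len_le P (n := s) (l := [s]) (by simpa [IsWord] using hs)
    (by simpa using Eqv.refl P s)
  have h2 : len P s ≠ 0 := fun h => not_mem_B P hs ((len_eq_zero P (S_mem P hs)).1 h)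
  simp at h1
  omega

theorem exists_left_decomp {n : G} (hn : n ∈ P.N) {k : ℕ} (h : len P n = k + 1) :
    ∃ s ∈ P.S, ∃ m ∈ P.N, len P m = k ∧ Eqv P n (s * m) := by
  obtain ⟨l, h1, h2, h3⟩ := len_spec P hn
  match l, h2 with
  | [], h2 => simp [h] at h2
  | s :: l', h2 =>
    have hs : s ∈ P.S := h1 s (by simp)
    have hl' : IsWord P l' := fun y hy => h1 y (by simp [hy])
    have hm := IsWord.mem_N P hl'
    refine ⟨s, hs, l'.prod, hm, ?_, by simpa using h3⟩
    have a := len_le P (n := l'.prod) hl' (Eqv.refl P _)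
    have b := len_mul_S_le P hm hs
    rw [← len_congr P hn (P.N.mul_mem (S_mem P hs) hm) (by simpa using h3)] at b
    simp at h2
    omega

theorem exists_right_decomp {n : G} (hn : n ∈ P.N) {k : ℕ} (h : len P n = k + 1) :
    ∃ s ∈ P.S, ∃ m ∈ P.N, len P m = k ∧ Eqv P n (m * s) := by
  obtain ⟨l, h1, h2, h3⟩ := len_spec P hn
  rcases List.eq_nil_or_concat' l with rfl | ⟨l', s, rfl⟩
  · simp [h] at h2
  · have hs : s ∈ P.S := h1 s (by simp)
    have hl' : IsWord P l' := fun y hy => h1 y (by simp [hy])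
    have hm := IsWord.mem_N P hl'
    refine ⟨s, hs, l'.prod, hm, ?_, by simpa using h3⟩
    have a := len_le P (n := l'.prod) hl' (Eqv.refl P _)
    have b := len_mul_right_le P hm hs
    rw [← len_congr P hn (P.N.mul_mem hm (S_mem P hs)) (by simpa using h3)] at b
    simp at h2
    omega

/-! ### the double coset axiom -/

theorem left_rule {s n b : G} (hs : s ∈ P.S) (hn : n ∈ P.N) (hb : b ∈ P.B) :
    s * b * n ∈ cell P (s * n) ∨ s * b * n ∈ cell P n :=
  P.mul_mem_union s hs n hn b hb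

theorem right_rule {s n b : G} (hs : s ∈ P.S) (hn : n ∈ P.N) (hb : b ∈ P.B) :
    n * b * s ∈ cell P (n * s) ∨ n * b * s ∈ cell P n := by
  have hb' : (s * s)⁻¹ * b⁻¹ ∈ P.B := P.B.mul_mem (P.B.inv_mem (P.sq_mem s hs)) (P.B.inv_mem hb)
  have e : (n * b * s)⁻¹ = s * ((s * s)⁻¹ * b⁻¹) * n⁻¹ := by group
  rcases left_rule P hs (P.N.inv_mem hn) hb' with h | h <;> rw [← e] at h
  · left
    have h' := cell_inv P h
    rw [inv_inv] at h'
    rwa [cell_congr P (n := (s * n⁻¹)⁻¹) (m := n * s) (by simpa [mul_assoc] using P.sq_mem s hs)] at h'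
  · right
    simpa using cell_inv P h

theorem right_rule_cell {s n x : G} (hs : s ∈ P.S) (hn : n ∈ P.N) (hx : x ∈ cell P n) :
    x * s ∈ cell P (n * s) ∨ x * s ∈ cell P n := by
  obtain ⟨b1, h1, c1, h2, rfl⟩ := (mem_cell P).1 hx
  have e : b1 * n * c1 * s = b1 * (n * c1 * s) := by group
  rw [e]
  exact (right_rule P hs hn h2).imp (cell_mul_left P h1) (cell_mul_left P h1)

theorem left_rule_cell {s n x : G} (hs : s ∈ P.S) (hn : n ∈ P.N) (hx : x ∈ cell P n) :
    s * x ∈ cell P (s * n) ∨ s * x ∈ cell P n := by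
  obtain ⟨b1, h1, c1, h2, rfl⟩ := (mem_cell P).1 hx
  have e : s * (b1 * n * c1) = s * b1 * n * c1 := by group
  rw [e]
  exact (left_rule P hs hn h1).imp (cell_mul_right P h2) (cell_mul_right P h2)

/-- a set of double cosets closed under the letters of `J` is closed under `⟨B, J⟩` -/
theorem union_cells_mul {J : Set G} (hJ : J ⊆ P.S) (A : Set G) (hAN : A ⊆ P.N)
    (hA : ∀ s ∈ J, ∀ n ∈ A, n * s ∈ A) {g : G} (hg : g ∈ P.B ⊔ Subgroup.closure J)
    {x : G} (hx : ∃ n ∈ A, x ∈ cell P n) : ∃ n ∈ A, x * g ∈ cell P n := by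
  let K : Subgroup G :=
  { carrier := {g | ∀ x, (∃ n ∈ A, x ∈ cell P n) ↔ ∃ n ∈ A, x * g ∈ cell P n}
    mul_mem' := by
      intro a b ha hb x
      rw [ha x, hb (x * a), mul_assoc]
    one_mem' := fun x => by simp
    inv_mem' := by
      intro a ha x
      rw [ha (x * a⁻¹), inv_mul_cancel_right] }
  have hK : P.B ⊔ Subgroup.closure J ≤ K := by
    refine sup_le (fun b hb x => ?_) ((Subgroup.closure_le _).2 fun s hs x => ?_)
    · constructor
      · rintro ⟨n, hn, hx⟩; exact ⟨n, hn, cell_mul_right P hb hx⟩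
      · rintro ⟨n, hn, hx⟩
        exact ⟨n, hn, by simpa using cell_mul_right P (P.B.inv_mem hb) hx⟩
    · have hf : ∀ y, (∃ n ∈ A, y ∈ cell P n) → ∃ n ∈ A, y * s ∈ cell P n := by
        rintro y ⟨n, hn, hy⟩
        rcases right_rule_cell P (hJ hs) (hAN hn) hy with h | h
        · exact ⟨n * s, hA s hs n hn, h⟩
        · exact ⟨n, hn, h⟩
      refine ⟨hf x, fun h => ?_⟩
      obtain ⟨n, hn, h⟩ := hf _ h
      refine ⟨n, hn, ?_⟩
      simpa [mul_assoc] using cell_mul_right P (P.B.inv_mem (P.sq_mem s (hJ hs))) h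
  exact (hK hg x).1 hx

/-- Bruhat decomposition -/
theorem exists_cell (g : G) : ∃ n ∈ P.N, g ∈ cell P n := by
  have hg : g ∈ P.B ⊔ Subgroup.closure P.S := by
    have h : P.B ⊔ Subgroup.closure P.S = ⊤ := by
      rw [eq_top_iff, ← P.sup_eq_top]
      refine sup_le le_sup_left ?_
      conv_lhs => rw [← P.closure_sup]
      exact sup_le le_sup_right (inf_le_left.trans le_sup_left)
    rw [h]; trivial
  simpa using union_cells_mul P (Set.Subset.refl _) P.N subset_rfl
    (fun s hs n hn => P.N.mul_mem hn (S_mem P hs)) hg (x := 1) ⟨1, P.N.one_mem, mem_cell_self P 1⟩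

theorem eqv_of_cell_eq {n n' : G} (hn : n ∈ P.N) (hn' : n' ∈ P.N)
    (h : cell P n = cell P n') : Eqv P n n' := by
  suffices H : ∀ k, ∀ n n' : G, n ∈ P.N → n' ∈ P.N → len P n = k → k ≤ len P n' →
      cell P n = cell P n' → Eqv P n n' by
    rcases le_total (len P n) (len P n') with h1 | h1
    · exact H _ n n' hn hn' rfl h1 h
    · exact (H _ n' n hn' hn rfl h1 h.symm).symm
  intro k
  induction k with
  | zero =>
    intro n n' hn hn' hk _ h
    have hB := (len_eq_zero P hn).1 hk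
    have h' : n' ∈ cell P n := h ▸ mem_cell_self P n'
    exact P.B.mul_mem (P.B.inv_mem hB) ((cell_of_mem_B P hB).1 h')
  | succ k ih =>
    intro n n' hn hn' hk hle h
    obtain ⟨s, hs, m, hm, hmk, he⟩ := exists_left_decomp P hn hk
    have hsm : s * m ∈ cell P n' := by
      rw [← h, he.cell_eq]; exact mem_cell_self P _
    have hm' : m ∈ cell P (s * n') ∨ m ∈ cell P n' := by
      have e : m = (s * s)⁻¹ * (s * (s * m)) := by group
      rw [e]
      exact (left_rule_cell P hs hn' hsm).imp (cell_mul_left P (P.B.inv_mem (P.sq_mem s hs)))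
        (cell_mul_left P (P.B.inv_mem (P.sq_mem s hs)))
    have hsn' := P.N.mul_mem (S_mem P hs) hn'
    have hge : k ≤ len P (s * n') := by
      have := len_le_mul_S P hn' hs
      omega
    rcases hm' with hm' | hm'
    · have h1 := ih m (s * n') hm hsn' hmk hge (cell_eq_of_mem P hm')
      exact he.trans ((Eqv.mul_left s h1).trans (Eqv_sq P hs hn'))
    · have h1 := ih m n' hm hn' hmk (by omega) (cell_eq_of_mem P hm')
      have := len_congr P hm hn' h1
      omega

theorem eqv_of_mem_cell {n n' x : G} (hn : n ∈ P.N) (hn' : n' ∈ P.N)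
    (h : x ∈ cell P n) (h' : x ∈ cell P n') : Eqv P n n' :=
  eqv_of_cell_eq P hn hn' (cell_eq_of_mem_of_mem P h h')

/-- thickness: `s` is in `B s B s B` -/
theorem thick {s : G} (hs : s ∈ P.S) : ∃ b ∈ P.B, s * b * s ∈ cell P s := by
  by_contra hcon
  push Not at hcon
  have hB : ∀ b ∈ P.B, s * b * s ∈ P.B := by
    intro b hb
    rcases left_rule P hs (S_mem P hs) hb with h | h
    · exact (cell_of_mem_B P (P.sq_mem s hs)).1 h
    · exact absurd h (hcon b hb)
  apply P.conj_ne s hs
  ext x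
  constructor
  · rintro ⟨b, hb, rfl⟩
    exact hB b hb
  · intro hx
    refine ⟨(s * s)⁻¹ * (s * x * s) * (s * s)⁻¹,
      P.B.mul_mem (P.B.mul_mem (P.B.inv_mem (P.sq_mem s hs)) (hB x hx)) (P.B.inv_mem (P.sq_mem s hs)),
      by group⟩

theorem left_mem_cell {s n : G} (hs : s ∈ P.S) (hn : n ∈ P.N) (h : len P n ≤ len P (s * n))
    {b : G} (hb : b ∈ P.B) : s * b * n ∈ cell P (s * n) := by
  induction hk : len P n generalizing n b with
  | zero =>
    exact (mem_cell P).2 ⟨1, P.B.one_mem, n⁻¹ * b * n,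
      P.B.mul_mem (P.B.mul_mem (P.B.inv_mem ((len_eq_zero P hn).1 hk)) hb) ((len_eq_zero P hn).1 hk),
      by group⟩
  | succ k ih =>
    obtain ⟨r, hr, m, hm, hmk, he⟩ := exists_right_decomp P hn hk
    have hsm := P.N.mul_mem (S_mem P hs) hm
    have hmr := P.N.mul_mem hm (S_mem P hr)
    have hlsm : len P m ≤ len P (s * m) := by
      have a := len_mul_right_le P hsm hr
      have b : len P (s * n) = len P (s * m * r) := by
        apply len_congr P (P.N.mul_mem (S_mem P hs) hn) (P.N.mul_mem hsm (S_mem P hr))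
        simpa [mul_assoc] using Eqv.mul_left s he
      omega
    rcases left_rule P hs hn hb with h1 | h1
    · exact h1
    exfalso
    have h2 : s * b * m ∈ cell P (s * m) := ih hm hlsm hb hmk
    have h3 : s * b * (m * r) ∈ cell P (m * r) := by
      have e : s * b * (m * r) = (s * b * n) * (n⁻¹ * (m * r)) := by group
      rw [e, ← he.cell_eq]
      exact cell_mul_right P he h1
    have h4 : s * b * m ∈ cell P (m * r * r) ∨ s * b * m ∈ cell P (m * r) := by
      have e : s * b * m = s * b * (m * r) * r * (r * r)⁻¹ := by group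
      rw [e]
      exact (right_rule_cell P hr hmr h3).imp (cell_mul_right P (P.B.inv_mem (P.sq_mem r hr)))
        (cell_mul_right P (P.B.inv_mem (P.sq_mem r hr)))
    rcases h4 with h4 | h4
    · have h5 := eqv_of_mem_cell P hsm (P.N.mul_mem hmr (S_mem P hr)) h2 h4
      have h6 := h5.trans (Eqv_sq_right P hr)
      have h7 : m⁻¹ * (m⁻¹ * s * m)⁻¹ * m ∈ P.N := by
        exact P.N.mul_mem (P.N.mul_mem (P.N.inv_mem hm) (P.N.inv_mem (P.N.mul_mem (P.N.mul_mem
          (P.N.inv_mem hm) (S_mem P hs)) hm))) hm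
      have h8 : s⁻¹ ∈ P.B := by
        have := T_conj' P hm (t := (s * m)⁻¹ * m) ⟨h6, P.N.mul_mem (P.N.inv_mem hsm) hm⟩
        simpa [mul_assoc] using this
      exact not_mem_B P hs (by simpa using P.B.inv_mem h8)
    · have h5 := eqv_of_mem_cell P hsm hmr h2 h4
      have h6 : Eqv P (s * n) m := by
        have a := Eqv.mul_left s (h5.trans he.symm).symm
        exact a.trans (Eqv_sq P hs hm)
      have := len_congr P (P.N.mul_mem (S_mem P hs) hn) hm h6
      omega

theorem exists_of_len_lt {s n : G} (hs : s ∈ P.S) (hn : n ∈ P.N) (h : len P (s * n) < len P n) :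
    ∃ b ∈ P.B, s * b * n ∈ cell P n := by
  have hsn := P.N.mul_mem (S_mem P hs) hn
  have hse : Eqv P (s * (s * n)) n := Eqv_sq P hs hn
  have hle : len P (s * n) ≤ len P (s * (s * n)) := by
    rw [len_congr P (P.N.mul_mem (S_mem P hs) hsn) hn hse]; omega
  obtain ⟨b, hb, hbs⟩ := thick P hs
  obtain ⟨b1, h1, c1, h2, he⟩ := (mem_cell P).1 hbs
  refine ⟨b, hb, ?_⟩
  have e : s * b * n = b1 * (s * (c1 * (s * s)⁻¹) * (s * n)) := by
    calc s * b * n = s * b * s * ((s * s)⁻¹ * (s * n)) := by group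
      _ = b1 * s * c1 * ((s * s)⁻¹ * (s * n)) := by rw [he]
      _ = _ := by group
  rw [e]
  apply cell_mul_left P h1
  have := left_mem_cell P hs hsn hle (P.B.mul_mem h2 (P.B.inv_mem (P.sq_mem s hs)))
  rwa [hse.cell_eq] at this

theorem len_mul_cases {s n : G} (hs : s ∈ P.S) (hn : n ∈ P.N) :
    len P (s * n) = len P n + 1 ∨ len P (s * n) + 1 = len P n := by
  have a := len_mul_S_le P hn hs
  have b := len_le_mul_S P hn hs
  by_contra hcon
  have heq : len P (s * n) = len P n := by omega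
  obtain ⟨c, hc, hcs⟩ := thick P hs
  obtain ⟨b1, h1, c1, h2, he⟩ := (mem_cell P).1 hcs
  have hsn := P.N.mul_mem (S_mem P hs) hn
  have hse : Eqv P (s * (s * n)) n := Eqv_sq P hs hn
  have k1 : s * c1 * n ∈ cell P (s * n) := left_mem_cell P hs hn (by omega) h2
  obtain ⟨x, hx, y, hy, k2⟩ := (mem_cell P).1 (left_mem_cell P hs hn (by omega) (P.B.one_mem))
  have k3 : s * c * (x * (s * n) * y) ∈ cell P n := by
    have := cell_mul_right P hy (left_mem_cell P hs hsn
      (by rw [len_congr P (P.N.mul_mem (S_mem P hs) hsn) hn hse]; omega) (P.B.mul_mem hc hx))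
    rw [hse.cell_eq] at this
    simpa [mul_assoc] using this
  rw [← k2] at k3
  have k4 : b1 * (s * c1 * n) ∈ cell P n := by
    have e : s * c * (s * 1 * n) = b1 * (s * c1 * n) := by
      calc s * c * (s * 1 * n) = s * c * s * n := by group
        _ = b1 * s * c1 * n := by rw [he]
        _ = _ := by group
    rwa [← e]
  have h5 : Eqv P (s * n) n := eqv_of_mem_cell P hsn hn (cell_mul_left P h1 k1) k4
  have h8 : s⁻¹ ∈ P.B := by
    have := T_conj' P hn (t := (s * n)⁻¹ * n) ⟨h5, P.N.mul_mem (P.N.inv_mem hsn) hn⟩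
    simpa [mul_assoc] using this
  exact not_mem_B P hs (by simpa using P.B.inv_mem h8)

/-- the exchange condition -/
theorem exchange {s : G} (hs : s ∈ P.S) : ∀ {l : List G}, IsWord P l →
    len P l.prod = l.length → len P (s * l.prod) < l.length →
    ∃ i < l.length, Eqv P (s * l.prod) (l.eraseIdx i).prod := by
  intro l
  induction l using List.reverseRecOn with
  | nil => intro _ _ h; simp at h
  | append_singleton l r ih =>
    intro hw hlen hlt
    have hr : r ∈ P.S := hw r (by simp)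
    have hl : IsWord P l := fun y hy => hw y (by simp [hy])
    have hm := IsWord.mem_N P hl
    have hml : len P l.prod = l.length := by
      have a := len_le P (n := l.prod) hl (Eqv.refl P _)
      have b := len_mul_right_le P hm hr
      simp at hlen
      omega
    by_cases hcase : len P (s * l.prod) < l.length
    · obtain ⟨i, hi, he⟩ := ih hl hml hcase
      refine ⟨i, by simp; omega, ?_⟩
      have := Eqv.mul_right (P.N.mul_mem (S_mem P hs) hm)
        (IsWord.mem_N P fun y hy => hl y (List.mem_of_mem_eraseIdx hy)) (S_mem P hr) he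
      rw [List.eraseIdx_append_of_lt_length hi]
      simpa [mul_assoc] using this
    · refine ⟨l.length, by simp, ?_⟩
      rw [List.eraseIdx_append_of_length_le le_rfl]
      simp only [Nat.sub_self, List.eraseIdx_cons_zero, List.append_nil, List.prod_append,
        List.prod_singleton]
      simp only [List.prod_append, List.prod_singleton, List.length_append,
        List.length_singleton] at hlen hlt
      have hmr := P.N.mul_mem hm (S_mem P hr)
      have hsm := P.N.mul_mem (S_mem P hs) hm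
      obtain ⟨b, hb, hbn⟩ := exists_of_len_lt P hs hmr (by omega)
      have h2 : s * b * l.prod ∈ cell P (s * l.prod) :=
        left_mem_cell P hs hm (by omega) hb
      have h4 : s * b * l.prod ∈ cell P (l.prod * r * r) ∨ s * b * l.prod ∈ cell P (l.prod * r) := by
        have e : s * b * l.prod = s * b * (l.prod * r) * r * (r * r)⁻¹ := by group
        rw [e]
        exact (right_rule_cell P hr hmr hbn).imp (cell_mul_right P (P.B.inv_mem (P.sq_mem r hr)))
          (cell_mul_right P (P.B.inv_mem (P.sq_mem r hr)))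
      rcases h4 with h4 | h4
      · have h6 := (eqv_of_mem_cell P hsm (P.N.mul_mem hmr (S_mem P hr)) h2 h4).trans
          (Eqv_sq_right P hr)
        exfalso
        have := len_congr P hsm hm h6
        rcases len_mul_cases P hs hm with h' | h' <;> omega
      · have h5 := eqv_of_mem_cell P hsm hmr h2 h4
        exact (Eqv.mul_left s h5.symm).trans (Eqv_sq P hs hm)

/-! ### parabolic subgroups -/

theorem parabolic_subset {J : Set G} (hJ : J ⊆ P.S) {g : G} (hg : g ∈ P.parabolic J) :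
    ∃ n ∈ Subgroup.closure J, g ∈ cell P n := by
  have hN : (Subgroup.closure J : Subgroup G) ≤ P.N :=
    (Subgroup.closure_le _).2 (fun s hs => S_mem P (hJ hs))
  simpa using union_cells_mul P hJ (Subgroup.closure J : Set G) hN
    (fun s hs n hn => (Subgroup.closure J).mul_mem hn (Subgroup.subset_closure hs)) hg (x := 1)
    ⟨1, (Subgroup.closure J).one_mem, mem_cell_self P 1⟩

theorem mem_parabolic_iff {J : Set G} (hJ : J ⊆ P.S) (g : G) :
    g ∈ P.parabolic J ↔ ∃ n ∈ Subgroup.closure J, g ∈ cell P n := by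
  refine ⟨parabolic_subset P hJ, ?_⟩
  rintro ⟨n, hn, h⟩
  obtain ⟨b, hb, c, hc, rfl⟩ := (mem_cell P).1 h
  have hB : P.B ≤ P.parabolic J := le_sup_left
  have hC : Subgroup.closure J ≤ P.parabolic J := le_sup_right
  exact mul_mem (mul_mem (hB hb) (hC hn)) (hB hc)

theorem exists_reduced_in {J : Set G} (hJ : J ⊆ P.S) :
    ∀ l : List G, (∀ x ∈ l, x ∈ J) →
      ∃ l' : List G, (∀ x ∈ l', x ∈ J) ∧ Eqv P l.prod l'.prod ∧ len P l.prod = l'.length := by
  intro l
  induction l with
  | nil => exact fun _ => ⟨[], by simp, Eqv.refl P _, by simp [len_eq_zero P P.N.one_mem, P.B.one_mem]⟩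
  | cons s l ih =>
    intro hl
    obtain ⟨l', h1, h2, h3⟩ := ih fun x hx => hl x (by simp [hx])
    have hs : s ∈ P.S := hJ (hl s (by simp))
    have hm := IsWord.mem_N P (l := l) fun x hx => hJ (hl x (by simp [hx]))
    have hw : IsWord P l' := fun x hx => hJ (h1 x hx)
    have hm' := IsWord.mem_N P hw
    have e1 : Eqv P (s * l.prod) (s * l'.prod) := Eqv.mul_left s h2
    have e2 := len_congr P (P.N.mul_mem (S_mem P hs) hm) (P.N.mul_mem (S_mem P hs) hm') e1
    have e3 := len_congr P hm hm' h2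
    rcases len_mul_cases P hs hm' with h | h
    · refine ⟨s :: l', ?_, by simpa using e1, ?_⟩
      · intro x hx
        rcases List.mem_cons.1 hx with rfl | hx
        · exact hl x (by simp)
        · exact h1 x hx
      · simp only [List.prod_cons, List.length_cons]; omega
    · obtain ⟨i, hi, he⟩ := exchange P hs hw (by omega) (by omega)
      refine ⟨l'.eraseIdx i, fun x hx => h1 x (List.mem_of_mem_eraseIdx hx),
        by simpa using e1.trans he, ?_⟩
      simp only [List.prod_cons, List.length_eraseIdx, hi, if_true]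
      omega

/-- every element of `⟨J⟩` is a product of letters in `J` modulo `B ⊓ N` -/
theorem exists_word_in {J : Set G} (hJ : J ⊆ P.S) {n : G} (hn : n ∈ Subgroup.closure J) :
    ∃ l : List G, (∀ x ∈ l, x ∈ J) ∧ Eqv P n l.prod := by
  have hN : (Subgroup.closure J : Subgroup G) ≤ P.N :=
    (Subgroup.closure_le _).2 (fun s hs => S_mem P (hJ hs))
  induction hn using Subgroup.closure_induction with
  | mem x hx => exact ⟨[x], by simpa using hx, by simpa using Eqv.refl P x⟩
  | one => exact ⟨[], by simp, Eqv.refl P _⟩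
  | mul x y hx hy ihx ihy =>
    obtain ⟨l, h1, h2⟩ := ihx
    obtain ⟨l', h1', h2'⟩ := ihy
    refine ⟨l ++ l', fun z hz => (List.mem_append.1 hz).elim (h1 z) (h1' z), ?_⟩
    rw [List.prod_append]
    exact (Eqv.mul_right (hN hx) (IsWord.mem_N P fun z hz => hJ (h1 z hz)) (hN hy) h2).trans
      (Eqv.mul_left _ h2')
  | inv x hx ihx =>
    obtain ⟨l, h1, h2⟩ := ihx
    refine ⟨l.reverse, fun z hz => h1 z (List.mem_reverse.1 hz), ?_⟩
    have hrev : ∀ l : List G, (∀ z ∈ l, z ∈ P.S) → Eqv P l.prod⁻¹ l.reverse.prod := by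
      intro l
      induction l with
      | nil => intro _; simpa using Eqv.refl P (1 : G)
      | cons a l ih =>
        intro hl
        have ha := hl a (by simp)
        have hlN := IsWord.mem_N P (l := l) fun z hz => hl z (by simp [hz])
        have hlrN := IsWord.mem_N P (l := l.reverse) fun z hz => hl z (by simp at hz; simp [hz])
        have h3 : Eqv P (l.prod⁻¹ * a⁻¹) (l.prod⁻¹ * a) := by
          simpa [Eqv, mul_assoc] using P.sq_mem a ha
        simpa using h3.trans (Eqv.mul_right (P.N.inv_mem hlN) hlrN (S_mem P ha) (ih fun z hz => hl z (by simp [hz])))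
    refine Eqv.trans ?_ (hrev l fun z hz => hJ (h1 z hz))
    have hlN := IsWord.mem_N P (l := l) fun z hz => hJ (h1 z hz)
    have := T_conj' P hlN ⟨P.B.inv_mem h2, P.N.inv_mem (P.N.mul_mem (P.N.inv_mem (hN hx)) hlN)⟩
    simpa [Eqv, mul_assoc] using this

theorem mem_of_parabolic {J : Set G} (hJ : J ⊆ P.S) {s : G} (hs : s ∈ P.S)
    (h : s ∈ P.parabolic J) : s ∈ J := by
  obtain ⟨n, hn, hc⟩ := parabolic_subset P hJ h
  have hnN : n ∈ P.N := (Subgroup.closure_le _).2 (fun s hs => S_mem P (hJ hs)) hn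
  have e := eqv_of_mem_cell P hnN (S_mem P hs) hc (mem_cell_self P s)
  obtain ⟨l, h1, h2⟩ := exists_word_in P hJ hn
  obtain ⟨l', h1', h2', h3⟩ := exists_reduced_in P hJ l h1
  have hlN := IsWord.mem_N P (l := l) fun z hz => hJ (h1 z hz)
  have e' : Eqv P s l.prod := e.symm.trans h2
  rw [← len_congr P (S_mem P hs) hlN e', len_simple P hs] at h3
  match l', h3 with
  | [r], _ =>
    have hr : r ∈ J := h1' r (by simp)
    have : s = r := P.inj s hs r (hJ hr) (by simpa [Eqv] using e'.trans h2')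
    exact this ▸ hr

/-- letters of a reduced word for `n` lie in `⟨B, n B n⁻¹⟩` -/
theorem letters_mem_of_reduced : ∀ (l : List G), IsWord P l → len P l.prod = l.length →
    ∀ H : Subgroup G, P.B ≤ H → (∀ b ∈ P.B, l.prod * b * l.prod⁻¹ ∈ H) → ∀ x ∈ l, x ∈ H := by
  intro l
  induction l with
  | nil => intro _ _ H _ _ x hx; simp at hx
  | cons s l ih =>
    intro hw hlen H hB hconj x hx
    have hs : s ∈ P.S := hw s (by simp)
    have hl : IsWord P l := fun y hy => hw y (by simp [hy])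
    have hlN := IsWord.mem_N P hl
    have hn : (s :: l).prod ∈ P.N := IsWord.mem_N P hw
    simp only [List.prod_cons, List.length_cons] at hlen hn
    have hle := len_le P (n := l.prod) hl (Eqv.refl P _)
    have hlt : len P (s * (s * l.prod)) < len P (s * l.prod) := by
      rw [len_congr P (P.N.mul_mem (S_mem P hs) hn) hlN (Eqv_sq P hs hlN)]
      omega
    obtain ⟨b, hb, hbn⟩ := exists_of_len_lt P hs hn hlt
    obtain ⟨b1, h1, c1, h2, he⟩ := (mem_cell P).1 hbn
    have hsH : s ∈ H := by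
      have e : s = b1 * ((s * l.prod) * c1 * (s * l.prod)⁻¹) * b⁻¹ := by
        calc s = s * b * (s * l.prod) * (s * l.prod)⁻¹ * b⁻¹ := by group
          _ = b1 * (s * l.prod) * c1 * (s * l.prod)⁻¹ * b⁻¹ := by rw [he]
          _ = _ := by group
      rw [e]
      refine H.mul_mem (H.mul_mem (hB h1) ?_) (H.inv_mem (hB hb))
      simpa using hconj c1 h2
    rcases List.mem_cons.1 hx with rfl | hx
    · exact hsH
    · refine ih hl ?_ H hB (fun c hc => ?_) x hx
      · have := len_mul_S_le P hlN hs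
        omega
      · have := H.mul_mem (H.mul_mem (H.inv_mem hsH) (hconj c hc)) hsH
        simpa [mul_assoc] using this

theorem mem_of_conj_le {n : G} (hn : n ∈ P.N) {H : Subgroup G} (hB : P.B ≤ H)
    (hconj : ∀ b ∈ P.B, n * b * n⁻¹ ∈ H) : n ∈ H := by
  obtain ⟨l, h1, h2, h3⟩ := len_spec P hn
  have hlN := IsWord.mem_N P h1
  have ht : n⁻¹ * l.prod ∈ P.B := h3
  have hl : len P l.prod = l.length := by rw [h2, len_congr P hn hlN h3]
  have hmem : l.prod ∈ H := by
    refine Subgroup.list_prod_mem H (fun x hx => letters_mem_of_reduced P l h1 hl H hB (fun b hb => ?_) x hx)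
    have := hconj _ (P.B.mul_mem (P.B.mul_mem ht hb) (P.B.inv_mem ht))
    simpa [mul_assoc] using this
  simpa using H.mul_mem hmem (hB (P.B.inv_mem ht))

theorem eq_parabolic_of_le (M : Subgroup G) (hM : P.B ≤ M) :
    M = P.parabolic (P.S ∩ M) := by
  refine le_antisymm (fun g hg => ?_) (sup_le hM ((Subgroup.closure_le _).2 fun s hs => hs.2))
  obtain ⟨n, hn, hgn⟩ := exists_cell P g
  obtain ⟨b, hb, c, hc, rfl⟩ := (mem_cell P).1 hgn
  have hnM : n ∈ M := by
    simpa [mul_assoc] using M.mul_mem (M.mul_mem (M.inv_mem (hM hb)) hg) (M.inv_mem (hM hc))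
  obtain ⟨l, h1, h2, h3⟩ := len_spec P hn
  have hlN := IsWord.mem_N P h1
  have hl : len P l.prod = l.length := by rw [h2, len_congr P hn hlN h3]
  have hlM : l.prod ∈ M := by
    have : n * (n⁻¹ * l.prod) ∈ M := M.mul_mem hnM (hM h3)
    simpa using this
  have hlet : ∀ x ∈ l, x ∈ P.S ∩ (M : Set G) := fun x hx => ⟨h1 x hx,
    letters_mem_of_reduced P l h1 hl M hM
      (fun b hb => M.mul_mem (M.mul_mem hlM (hM hb)) (M.inv_mem hlM)) x hx⟩
  have hB : P.B ≤ P.parabolic (P.S ∩ M) := le_sup_left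
  have hC : Subgroup.closure (P.S ∩ (M : Set G)) ≤ P.parabolic (P.S ∩ M) := le_sup_right
  have hlp : l.prod ∈ P.parabolic (P.S ∩ M) :=
    hC (Subgroup.list_prod_mem _ fun x hx => Subgroup.subset_closure (hlet x hx))
  have hnp : n ∈ P.parabolic (P.S ∩ M) := by
    simpa using mul_mem hlp (hB (P.B.inv_mem h3))
  exact mul_mem (mul_mem (hB hb) hnp) (hB hc)

theorem inter_parabolic {J : Set G} (hJ : J ⊆ P.S) :
    P.S ∩ (P.parabolic J : Set G) = J := by
  ext s
  exact ⟨fun h => mem_of_parabolic P hJ h.1 h.2,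
    fun h => ⟨hJ h, (le_sup_right : _ ≤ P.parabolic J) (Subgroup.subset_closure h)⟩⟩

theorem parabolic_mono {J K : Set G} (h : J ⊆ K) : P.parabolic J ≤ P.parabolic K :=
  sup_le le_sup_left ((Subgroup.closure_mono h).trans le_sup_right)

theorem B_le_parabolic (J : Set G) : P.B ≤ P.parabolic J := le_sup_left

theorem mem_of_conj_parabolic {J K : Set G} (g : G)
    (h : ∀ x ∈ P.parabolic J, g * x * g⁻¹ ∈ P.parabolic K) : g ∈ P.parabolic K := by
  have hB := B_le_parabolic P K
  obtain ⟨n, hn, hgn⟩ := exists_cell P g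
  obtain ⟨b, hb, c, hc, rfl⟩ := (mem_cell P).1 hgn
  refine mul_mem (mul_mem (hB hb) (mem_of_conj_le P hn hB fun x hx => ?_)) (hB hc)
  have h1 := h (c⁻¹ * x * c) (B_le_parabolic P J (P.B.mul_mem (P.B.mul_mem (P.B.inv_mem hc) hx) hc))
  simpa [mul_assoc] using mul_mem (mul_mem (inv_mem (hB hb)) h1) (hB hb)

theorem parabolic_eq_of_conj {J K : Set G} (g : G)
    (h : (P.parabolic J).map (MulAut.conj g).toMonoidHom = P.parabolic K) :
    P.parabolic J = P.parabolic K := by
  have hg : g ∈ P.parabolic K := mem_of_conj_parabolic P g fun x hx => by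
    rw [← h]; exact ⟨x, hx, rfl⟩
  apply le_antisymm
  · intro x hx
    have h1 : g * x * g⁻¹ ∈ P.parabolic K := by rw [← h]; exact ⟨x, hx, rfl⟩
    simpa [mul_assoc] using mul_mem (mul_mem (inv_mem hg) h1) hg
  · intro x hx
    have h1 : g * x * g⁻¹ ∈ P.parabolic K := mul_mem (mul_mem hg hx) (inv_mem hg)
    rw [← h] at h1
    obtain ⟨y, hy, hyx⟩ := h1
    simp only [MulEquiv.coe_toMonoidHom, MulAut.conj_apply] at hyx
    have : y = x := by simpa using hyx
    exact this ▸ hy

theorem normalizer_parabolic (J : Set G) :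
    Subgroup.normalizer (P.parabolic J : Set G) = P.parabolic J := by
  refine le_antisymm (fun g hg => mem_of_conj_parabolic P (J := J) g fun x hx => ?_) Subgroup.le_normalizer
  exact (Subgroup.mem_normalizer_iff.1 hg x).1 hx

end CfsgLib.Lie.BN
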