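import Mathlib
import Cfsg.Agent.Lib.Invol.DihedralSubgroup

/-!
# Involutions and Sylow 2-subgroups of `PSL(2,q)`, `q` odd
-/

set_option autoImplicit false
set_option linter.style.haveILetI false
set_option linter.unusedSimpArgs false

namespace CfsgLib.PSL2Two

open Matrix

variable {F : Type*} [Field F]

/-- `SL(2,F)`. -/
abbrev SL2 (F : Type*) [Field F] := Matrix.SpecialLinearGroup (Fin 2) F

/-- `PSL(2,F)`. -/
abbrev PSL2 (F : Type*) [Field F] := Matrix.ProjectiveSpecialLinearGroup (Fin 2) F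

theorem val_mul (A B : SL2 F) : (A * B).1 = A.1 * B.1 := rfl

/-- The projection `SL(2,F) → PSL(2,F)`. -/
def π : SL2 F →* PSL2 F := QuotientGroup.mk' _

theorem π_surjective : Function.Surjective (π : SL2 F →* PSL2 F) := QuotientGroup.mk'_surjective _

theorem π_eq_one_iff {A : SL2 F} : π A = 1 ↔ A.1 = 1 ∨ A.1 = -1 := by
  rw [π, QuotientGroup.mk'_apply, QuotientGroup.eq_one_iff, Matrix.SpecialLinearGroup.mem_center_iff]
  constructor
  · rintro ⟨r, hr, he⟩
    rw [Fintype.card_fin] at hr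
    rcases mul_self_eq_one_iff.1 ((sq r).symm.trans hr) with rfl | rfl
    · exact Or.inl (by rw [← he, map_one])
    · exact Or.inr (by rw [← he, map_neg, map_one])
  · rintro (h | h)
    · exact ⟨1, by simp, by rw [h, map_one]⟩
    · exact ⟨-1, by simp, by rw [h, map_neg, map_one]⟩

theorem π_eq_iff {A B : SL2 F} : π A = π B ↔ A.1 = B.1 ∨ A.1 = -B.1 := by
  rw [← inv_mul_eq_one, ← map_inv, ← map_mul, π_eq_one_iff]
  have hB : B.1 = A.1 * (A⁻¹ * B).1 := by rw [← val_mul, mul_inv_cancel_left]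
  constructor
  · rintro (h | h)
    · exact Or.inl (by rw [hB, h, mul_one])
    · exact Or.inr (by rw [hB, h, mul_neg, mul_one, neg_neg])
  · rintro (h | h)
    · rw [show A = B from Subtype.ext h, inv_mul_cancel]; exact Or.inl rfl
    · refine Or.inr ?_
      have e : B.1 = -A.1 := by rw [h, neg_neg]
      rw [val_mul, e, mul_neg, ← val_mul, inv_mul_cancel]; rfl

theorem two_ne_zero_of_odd [Fintype F] (hodd : Fintype.card F % 2 = 1) : (2 : F) ≠ 0 := by
  apply Ring.two_ne_zero
  intro h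
  have := FiniteField.even_card_of_char_two (F := F) h
  omega

theorem exists_sq_add_sq [Fintype F] (hodd : Fintype.card F % 2 = 1) (x : F) :
    ∃ a b : F, a ^ 2 + b ^ 2 = x := by
  obtain ⟨a, b, hab⟩ := FiniteField.exists_root_sum_quadratic
    (f := (Polynomial.X : Polynomial F) ^ 2) (g := Polynomial.X ^ 2 - Polynomial.C x)
    (Polynomial.degree_X_pow 2) (Polynomial.degree_X_pow_sub_C (by decide) _) hodd
  refine ⟨a, b, sub_eq_zero.1 ?_⟩
  simpa only [Polynomial.eval_C, Polynomial.eval_X, Polynomial.eval_pow, Polynomial.eval_sub,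
    ← add_sub_assoc] using hab

/-- The rotation by a right angle. -/
def J : SL2 F := ⟨!![0, -1; 1, 0], by simp [det_fin_two]⟩

theorem mul_self_eq_neg_one (h2 : (2 : F) ≠ 0) {g : PSL2 F} (hg : g * g = 1) (hg1 : g ≠ 1) :
    ∃ A : SL2 F, π A = g ∧ A.1 * A.1 = -1 := by
  obtain ⟨A, rfl⟩ := π_surjective g
  refine ⟨A, rfl, ?_⟩
  rw [← map_mul, π_eq_one_iff, val_mul] at hg
  refine hg.resolve_left fun h => hg1 (π_eq_one_iff.2 ?_)
  have hd : A.1 0 0 * A.1 1 1 - A.1 0 1 * A.1 1 0 = 1 := (det_fin_two A.1).symm.trans A.2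
  have e00 := congrFun (congrFun h 0) 0
  have e01 := congrFun (congrFun h 0) 1
  have e10 := congrFun (congrFun h 1) 0
  have e11 := congrFun (congrFun h 1) 1
  simp only [Matrix.mul_apply, Fin.sum_univ_two, one_apply_eq, Fin.isValue, ne_eq, zero_ne_one,
    not_false_eq_true, one_apply_ne, one_ne_zero] at e00 e01 e10 e11
  generalize ha : A.1 0 0 = a at *
  generalize hb : A.1 0 1 = b at *
  generalize hc : A.1 1 0 = c at *
  generalize hd' : A.1 1 1 = d at *
  have ht : a * (a + d) = 2 := by linear_combination e00 + hd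
  have ht' : a + d ≠ 0 := fun h0 => h2 (by rw [← ht, h0, mul_zero])
  have hb0 : b = 0 := (mul_eq_zero.1 (show b * (a + d) = 0 by linear_combination e01)).resolve_right ht'
  have hc0 : c = 0 := (mul_eq_zero.1 (show c * (a + d) = 0 by linear_combination e10)).resolve_right ht'
  subst hb0 hc0
  have haa : a * a = 1 := by linear_combination e00
  have hda : d = a := by linear_combination a * hd - d * haa
  rcases mul_self_eq_one_iff.1 haa with h1 | h1
  · left; ext i j; fin_cases i <;> fin_cases j <;> simp [ha, hb, hc, hd', hda, h1]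
  · right; ext i j; fin_cases i <;> fin_cases j <;> simp [ha, hb, hc, hd', hda, h1]

theorem exists_conj_J [Fintype F] (hodd : Fintype.card F % 2 = 1) {A : SL2 F}
    (h : A.1 * A.1 = -1) : ∃ P : SL2 F, A * P = P * J := by
  have h2 := two_ne_zero_of_odd hodd
  have hd : A.1 0 0 * A.1 1 1 - A.1 0 1 * A.1 1 0 = 1 := (det_fin_two A.1).symm.trans A.2
  have e00 := congrFun (congrFun h 0) 0
  have e01 := congrFun (congrFun h 0) 1
  have e10 := congrFun (congrFun h 1) 0
  have e11 := congrFun (congrFun h 1) 1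
  simp only [Matrix.mul_apply, Fin.sum_univ_two, Matrix.neg_apply, one_apply_eq, Fin.isValue, ne_eq, zero_ne_one,
    not_false_eq_true, one_apply_ne, one_ne_zero, neg_zero] at e00 e01 e10 e11
  generalize ha : A.1 0 0 = a at *
  generalize hb : A.1 0 1 = b at *
  generalize hc : A.1 1 0 = c at *
  generalize hd' : A.1 1 1 = d at *
  have htr : (a + d) * (a + d) = 0 := by linear_combination e00 + e11 + 2 * hd
  have hda : d = -a := eq_neg_of_add_eq_zero_right (mul_self_eq_zero.1 htr)
  obtain ⟨x, y, hxy⟩ : ∃ x y : F, c * x ^ 2 - 2 * a * x * y - b * y ^ 2 = 1 := by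
    by_cases hc0 : c = 0
    · have ha0 : a ≠ 0 := by rintro rfl; subst hc0; simp at e00
      refine ⟨-(1 + b) / (2 * a), 1, ?_⟩
      subst hc0
      field_simp
      ring
    · obtain ⟨u, v, huv⟩ := exists_sq_add_sq hodd c
      refine ⟨(u + a * v) / c, v, ?_⟩
      field_simp
      linear_combination huv - v ^ 2 * e00
  let M : Matrix (Fin 2) (Fin 2) F := !![x, a * x + b * y; y, c * x + d * y]
  have hM : M.det = 1 := by
    simp only [M, det_fin_two_of]
    linear_combination hxy + x * y * hda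
  refine ⟨⟨M, hM⟩, Subtype.ext ?_⟩
  show A.1 * M = M * (J : SL2 F).1
  ext i j
  fin_cases i <;> fin_cases j <;>
    simp [M, J, Matrix.mul_apply, Fin.sum_univ_two, ha, hb, hc, hd']
  · linear_combination x * e00 + y * e01
  · linear_combination x * e10 + y * e11

/-- All involutions of `PSL(2,q)` are conjugate to the image of `J`. -/
theorem exists_conj_of_involution [Fintype F] (hodd : Fintype.card F % 2 = 1) {g : PSL2 F}
    (hg : g * g = 1) (hg1 : g ≠ 1) : ∃ k : PSL2 F, k * g * k⁻¹ = π J := by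
  obtain ⟨A, rfl, hA⟩ := mul_self_eq_neg_one (two_ne_zero_of_odd hodd) hg hg1
  obtain ⟨P, hP⟩ := exists_conj_J hodd hA
  refine ⟨π P⁻¹, ?_⟩
  rw [← map_inv, ← map_mul, ← map_mul, inv_inv, mul_assoc, hP, inv_mul_cancel_left]

/-- The rotations of `SL(2,F)`. -/
def rot : Subgroup (SL2 F) where
  carrier := {A | A.1 1 1 = A.1 0 0 ∧ A.1 1 0 = -A.1 0 1}
  one_mem' := by simp
  mul_mem' := by
    rintro A B ⟨h1, h2⟩ ⟨h3, h4⟩
    simp [val_mul, Matrix.mul_apply, Fin.sum_univ_two, h1, h2, h3, h4]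
    ring
  inv_mem' := by
    rintro A ⟨h1, h2⟩
    simp [Matrix.SpecialLinearGroup.coe_inv, adjugate_fin_two, h1, h2]

/-- The image of the rotations. -/
def rotP : Subgroup (PSL2 F) := rot.map π

theorem commute_J (A : SL2 F) (h : Commute (π A) (π J)) :
    (A.1 1 1 = A.1 0 0 ∧ A.1 1 0 = -A.1 0 1) ∨ (A.1 1 1 = -A.1 0 0 ∧ A.1 1 0 = A.1 0 1) := by
  have h' : π (A * J) = π (J * A) := by rw [map_mul, map_mul]; exact h.eq
  rcases π_eq_iff.1 h' with e | e
  · left
    have e1 := congrFun (congrFun e 0) 0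
    have e2 := congrFun (congrFun e 0) 1
    simp only [val_mul, Matrix.neg_apply, Matrix.mul_apply, Fin.sum_univ_two] at e1 e2
    simp [J] at e1 e2
    exact ⟨e2.symm, by linear_combination e1⟩
  · right
    have e1 := congrFun (congrFun e 0) 0
    have e2 := congrFun (congrFun e 0) 1
    simp only [val_mul, Matrix.neg_apply, Matrix.mul_apply, Fin.sum_univ_two] at e1 e2
    simp [J] at e1 e2
    exact ⟨e2.symm, by linear_combination -e1⟩

theorem mul_self_of_commute {g : PSL2 F} (h : Commute g (π J)) (hg : g ∉ rotP) : g * g = 1 := by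
  obtain ⟨A, rfl⟩ := π_surjective g
  have hA := (commute_J A h).resolve_left fun h' => hg ⟨A, h', rfl⟩
  rw [← map_mul, π_eq_one_iff]
  right
  have hd : A.1 0 0 * A.1 1 1 - A.1 0 1 * A.1 1 0 = 1 := (det_fin_two A.1).symm.trans A.2
  rw [hA.1, hA.2] at hd
  ext i j
  fin_cases i <;> fin_cases j <;>
    simp [val_mul, Matrix.mul_apply, Fin.sum_univ_two, hA.1, hA.2]
  · linear_combination -hd
  · ring
  · ring
  · linear_combination -hd

theorem inv_mul_mem_rotP {g k : PSL2 F} (hg : Commute g (π J)) (hk : Commute k (π J))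
    (hg' : g ∉ rotP) (hk' : k ∉ rotP) : g⁻¹ * k ∈ rotP := by
  obtain ⟨A, rfl⟩ := π_surjective g
  obtain ⟨B, rfl⟩ := π_surjective k
  have hA := (commute_J A hg).resolve_left fun h' => hg' ⟨A, h', rfl⟩
  have hB := (commute_J B hk).resolve_left fun h' => hk' ⟨B, h', rfl⟩
  refine ⟨A⁻¹ * B, ?_, by rw [map_mul, map_inv]⟩
  simp [rot, val_mul, Matrix.SpecialLinearGroup.coe_inv, adjugate_fin_two, Matrix.mul_apply,
    Fin.sum_univ_two, hA.1, hA.2, hB.1, hB.2]
  ring

theorem isCyclic_rotP [Fintype F] (h2 : (2 : F) ≠ 0) : IsCyclic (rotP : Subgroup (PSL2 F)) := by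
  obtain ⟨ι, hι⟩ := IsAlgClosed.exists_pow_nat_eq (-1 : AlgebraicClosure F) (n := 2) (by norm_num)
  set e := algebraMap F (AlgebraicClosure F)
  let f : (rot : Subgroup (SL2 F)) →* AlgebraicClosure F :=
    { toFun := fun A => e (A.1.1 0 0) + ι * e (A.1.1 0 1)
      map_one' := by simp
      map_mul' := by
        rintro ⟨A, h1, h2⟩ ⟨B, h3, h4⟩
        simp [val_mul, Matrix.mul_apply, Fin.sum_univ_two, h3, h4]
        linear_combination (-(e (A.1 0 1) * e (B.1 0 1))) * hι }
  have hinj : Function.Injective f := by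
    rintro ⟨A, h1, h3⟩ ⟨B, h4, h5⟩ hfe
    have he : e (A.1 0 0) + ι * e (A.1 0 1) = e (B.1 0 0) + ι * e (B.1 0 1) := hfe
    have nA : A.1 0 0 * A.1 0 0 + A.1 0 1 * A.1 0 1 = 1 := by
      have hd : A.1 0 0 * A.1 1 1 - A.1 0 1 * A.1 1 0 = 1 := (det_fin_two A.1).symm.trans A.2
      rw [h1, h3] at hd
      linear_combination hd
    have nB : B.1 0 0 * B.1 0 0 + B.1 0 1 * B.1 0 1 = 1 := by
      have hd : B.1 0 0 * B.1 1 1 - B.1 0 1 * B.1 1 0 = 1 := (det_fin_two B.1).symm.trans B.2
      rw [h4, h5] at hd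
      linear_combination hd
    have nA' : (e (A.1 0 0) + ι * e (A.1 0 1)) * (e (A.1 0 0) - ι * e (A.1 0 1)) = 1 := by
      have := congrArg e nA
      simp only [map_add, map_mul, map_one] at this
      linear_combination this - (e (A.1 0 1) ^ 2) * hι
    have nB' : (e (B.1 0 0) + ι * e (B.1 0 1)) * (e (B.1 0 0) - ι * e (B.1 0 1)) = 1 := by
      have := congrArg e nB
      simp only [map_add, map_mul, map_one] at this
      linear_combination this - (e (B.1 0 1) ^ 2) * hι
    have he' : e (A.1 0 0) - ι * e (A.1 0 1) = e (B.1 0 0) - ι * e (B.1 0 1) := by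
      rw [he] at nA'
      exact mul_left_cancel₀ (left_ne_zero_of_mul (nB'.trans_ne one_ne_zero)) (nA'.trans nB'.symm)
    have h2' : (2 : AlgebraicClosure F) ≠ 0 := by
      rw [← map_ofNat e 2]; exact (map_ne_zero e).2 h2
    have hι0 : ι ≠ 0 := by rintro rfl; simp at hι
    have ea : A.1 0 0 = B.1 0 0 := e.injective (mul_left_cancel₀ h2' (by linear_combination he + he'))
    have eb : A.1 0 1 = B.1 0 1 :=
      e.injective (mul_left_cancel₀ (mul_ne_zero h2' hι0) (by linear_combination he - he'))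
    refine Subtype.ext (Subtype.ext ?_)
    ext i j
    fin_cases i <;> fin_cases j <;> simp [ea, eb, h1, h3, h4, h5]
  haveI := isCyclic_of_subgroup_isDomain f hinj
  exact isCyclic_of_surjective (π.subgroupMap rot) (π.subgroupMap_surjective rot)

theorem exists_four [Fintype F] (hodd : Fintype.card F % 2 = 1) :
    ∃ g : PSL2 F, Commute g (π J) ∧ g * g = 1 ∧ g ≠ 1 ∧ g ≠ π J := by
  have h2 := two_ne_zero_of_odd hodd
  obtain ⟨a, b, hab⟩ := exists_sq_add_sq hodd (-1)
  let A : SL2 F := ⟨!![a, b; b, -a], by rw [det_fin_two_of]; linear_combination -hab⟩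
  have hne : a ≠ 0 ∨ b ≠ 0 := by
    by_contra h
    push Not at h
    simp [h.1, h.2] at hab
  have hn : ¬ (A.1 1 1 = A.1 0 0 ∧ A.1 1 0 = -A.1 0 1) := by
    rintro ⟨h1, h3⟩
    simp [A] at h1 h3
    rcases hne with h | h
    · exact h ((mul_eq_zero.1 (show 2 * a = 0 by linear_combination -h1)).resolve_left h2)
    · exact h ((mul_eq_zero.1 (show 2 * b = 0 by linear_combination h3)).resolve_left h2)
  have hnot : ∀ B : SL2 F, B.1 1 1 = B.1 0 0 ∧ B.1 1 0 = -B.1 0 1 → π A ≠ π B := by
    intro B hB h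
    rcases π_eq_iff.1 h with e | e
    · exact hn (by rw [e]; exact hB)
    · exact hn (by rw [e, Matrix.neg_apply, Matrix.neg_apply, Matrix.neg_apply, Matrix.neg_apply,
        hB.1, hB.2]; exact ⟨rfl, rfl⟩)
  refine ⟨π A, ?_, ?_, ?_, hnot J ⟨by simp [J], by simp [J]⟩⟩
  · show π A * π J = π J * π A
    rw [← map_mul, ← map_mul, π_eq_iff]
    right
    rw [val_mul, val_mul]
    ext i j
    fin_cases i <;> fin_cases j <;> simp [val_mul, A, J, Matrix.mul_apply, Fin.sum_univ_two]
  · rw [← map_mul, π_eq_one_iff]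
    right
    rw [val_mul]
    ext i j
    fin_cases i <;> fin_cases j <;> simp [val_mul, A, Matrix.mul_apply, Fin.sum_univ_two]
    · linear_combination hab
    · ring
    · ring
    · linear_combination hab
  · exact (map_one (π (F := F))) ▸ hnot 1 ⟨rfl, by simp⟩

theorem π_J_ne_one (h2 : (2 : F) ≠ 0) : π (J : SL2 F) ≠ 1 := by
  rw [Ne, π_eq_one_iff]
  rintro (h | h) <;> have := congrFun (congrFun h 1) 0 <;> simp [J] at this

theorem π_J_mul_self : π (J : SL2 F) * π J = 1 := by
  rw [← map_mul, π_eq_one_iff]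
  right
  rw [val_mul]
  ext i j
  fin_cases i <;> fin_cases j <;> simp [J, Matrix.mul_apply, Fin.sum_univ_two]

theorem eight_dvd_card [Fintype F] (hodd : Fintype.card F % 2 = 1)
    (h16 : 16 ∣ Fintype.card F ^ 2 - 1) : 8 ∣ Nat.card (PSL2 F) := by
  classical
  set q := Fintype.card F with hq
  have hq1 : 1 < q := Fintype.one_lt_card
  have hGL : Nat.card (GL (Fin 2) F) = (q ^ 2 - 1) * (q ^ 2 - q) := by
    rw [Matrix.card_GL_field, Fin.prod_univ_two]; simp [hq]
  have hker : (GeneralLinearGroup.det (n := Fin 2) (R := F)).ker =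
      (Matrix.SpecialLinearGroup.toGL (n := Fin 2) (R := F)).range := by
    ext g
    refine ⟨fun h => ⟨⟨g.1, congrArg Units.val (MonoidHom.mem_ker.1 h)⟩, Units.ext rfl⟩, ?_⟩
    rintro ⟨A, rfl⟩
    exact MonoidHom.mem_ker.2 (Units.ext A.2)
  have h1 : Nat.card (SL2 F) * (q - 1) = Nat.card (GL (Fin 2) F) := by
    rw [← (GeneralLinearGroup.det (n := Fin 2) (R := F)).ker.card_mul_index, Subgroup.index_ker,
      MonoidHom.range_eq_top.2 GeneralLinearGroup.det_surjective, Subgroup.card_top, Nat.card_units,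
      Nat.card_eq_fintype_card (α := F), hker,
      Nat.card_congr (MonoidHom.ofInjective Matrix.SpecialLinearGroup.toGL_injective).toEquiv]
  have h3 : Nat.card (SL2 F) = (q ^ 2 - 1) * q := by
    refine Nat.eq_of_mul_eq_mul_right (show 0 < q - 1 by omega) (h1.trans (hGL.trans ?_))
    rw [mul_assoc, Nat.mul_sub_one, pow_two]
  have h4 : Nat.card (Subgroup.center (SL2 F)) ∣ 2 := by
    rw [Nat.card_congr (Matrix.SpecialLinearGroup.center_equiv_rootsOfUnity' (0 : Fin 2)).toEquiv,
      Fintype.card_fin]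
    have hle : Nat.card (rootsOfUnity 2 F) ≤ 2 := by
      exact card_rootsOfUnity F 2
    have hpos : 0 < Nat.card (rootsOfUnity 2 F) := Nat.card_pos
    interval_cases Nat.card (rootsOfUnity 2 F) <;> norm_num
  have h5 : 16 ∣ Nat.card (PSL2 F) * Nat.card (Subgroup.center (SL2 F)) := by
    rw [← (Subgroup.center (SL2 F)).card_eq_card_quotient_mul_card_subgroup, h3]
    exact Dvd.dvd.mul_right h16 q
  have h6 : 8 * 2 ∣ Nat.card (PSL2 F) * 2 := h5.trans (mul_dvd_mul_left _ h4)
  exact Nat.dvd_of_mul_dvd_mul_right (by norm_num) h6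

/-- A Sylow 2-subgroup is dihedral: a cyclic subgroup with elements of order at least 4 and of
index two, all elements outside being involutions. -/
theorem sylow_structure [Fintype F] (hodd : Fintype.card F % 2 = 1)
    (h16 : 16 ∣ Fintype.card F ^ 2 - 1) (S : Sylow 2 (PSL2 F)) :
    ∃ K : Subgroup (S : Subgroup (PSL2 F)), IsCyclic K ∧ (∀ x y, x ∉ K → y ∉ K → x⁻¹ * y ∈ K) ∧
      (∀ x, x ∉ K → x * x = 1) ∧ (∃ x, x ∉ K) ∧ ∃ k ∈ K, k * k ≠ 1 := by
  have h2 := two_ne_zero_of_odd hodd
  haveI : Fact (Nat.Prime 2) := ⟨Nat.prime_two⟩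
  have hS8 : 8 ∣ Nat.card (S : Subgroup (PSL2 F)) := by
    rw [S.card_eq_multiplicity]
    exact (show (2:ℕ) ^ 3 ∣ _ from pow_dvd_pow 2 ((Nat.Prime.pow_dvd_iff_le_factorization
      Nat.prime_two Nat.card_pos.ne').1 (eight_dvd_card hodd h16)))
  haveI : Nontrivial (S : Subgroup (PSL2 F)) := by
    rw [← Finite.one_lt_card_iff_nontrivial]
    have := Nat.le_of_dvd Nat.card_pos hS8
    omega
  have hS := S.isPGroup'
  have hZ : Nontrivial (Subgroup.center (S : Subgroup (PSL2 F))) := hS.center_nontrivial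
  obtain ⟨z, hz⟩ := exists_prime_orderOf_dvd_card' (G := Subgroup.center (S : Subgroup (PSL2 F))) 2
    (by
      obtain ⟨k, hk, e⟩ := (hS.to_subgroup (Subgroup.center (S : Subgroup (PSL2 F)))).nontrivial_iff_card.1 hZ
      rw [e]; exact dvd_pow_self 2 hk.ne')
  have hz1 : ((z : (S : Subgroup (PSL2 F))) : PSL2 F) ≠ 1 := fun h => by
    rw [orderOf_eq_one_iff.2 (show z = 1 from Subtype.ext (Subtype.ext h))] at hz; omega
  have hz2 : ((z : (S : Subgroup (PSL2 F))) : PSL2 F) * (z : (S : Subgroup (PSL2 F))) = 1 := by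
    have := pow_orderOf_eq_one z
    rw [hz, pow_two] at this
    simpa using congrArg (fun u : Subgroup.center (S : Subgroup (PSL2 F)) => ((u : (S : Subgroup (PSL2 F))) : PSL2 F)) this
  obtain ⟨g, hg⟩ := exists_conj_of_involution hodd hz2 hz1
  let f : (S : Subgroup (PSL2 F)) →* PSL2 F :=
    (MulAut.conj g).toMonoidHom.comp (S : Subgroup (PSL2 F)).subtype
  have hf : Function.Injective f := (MulAut.conj g).injective.comp Subtype.val_injective
  have hc : ∀ s, Commute (f s) (π J) := fun s => by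
    have h1 := congrArg f (Subgroup.mem_center_iff.1 z.2 s)
    rw [map_mul, map_mul, show f z = π J from hg] at h1
    exact h1
  set K := rotP.comap f with hK
  haveI := isCyclic_rotP (F := F) h2
  haveI hcyc : IsCyclic K := isCyclic_of_injective (f.subgroupComap rotP)
    fun a b h => Subtype.ext (hf (congrArg Subtype.val h))
  have hKi : ∀ x y, x ∉ K → y ∉ K → x⁻¹ * y ∈ K := fun x y hx hy => by
    show f (x⁻¹ * y) ∈ rotP
    rw [map_mul, map_inv]
    exact inv_mul_mem_rotP (hc x) (hc y) hx hy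
  have hinv : ∀ x, x ∉ K → x * x = 1 := fun x hx => hf (by
    rw [map_mul, map_one]; exact mul_self_of_commute (hc x) hx)
  have hex : ∃ x, x ∉ K := by
    by_contra hall
    push Not at hall
    haveI : IsCyclic (S : Subgroup (PSL2 F)) := isCyclic_of_surjective K.subtype
      fun x => ⟨⟨x, hall x⟩, rfl⟩
    obtain ⟨a, hac, ha2, ha1, haJ⟩ := exists_four hodd
    have hp : ∀ b : PSL2 F, b * b = 1 → IsPGroup 2 (Subgroup.zpowers b) := fun b hb =>
      IsPGroup.of_card (n := padicValNat 2 (Nat.card (Subgroup.zpowers b))) (by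
        rw [Nat.card_zpowers]
        have : orderOf b ∣ 2 := orderOf_dvd_of_pow_eq_one (by rw [pow_two, hb])
        rcases (Nat.dvd_prime Nat.prime_two).1 this with h | h <;> rw [h] <;> simp)
    have hH : IsPGroup 2 (Subgroup.zpowers a ⊔ Subgroup.zpowers (π J) : Subgroup (PSL2 F)) :=
      (hp a ha2).to_sup_of_normal_right' (hp _ π_J_mul_self) (by
        rw [Subgroup.zpowers_le]
        refine Subgroup.centralizer_le_normalizer ((Subgroup.zpowers (π (J : SL2 F))) : Set (PSL2 F)) ?_
        rw [Subgroup.mem_centralizer_iff]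
        rintro u ⟨i, rfl⟩
        exact ((hac.zpow_right i).symm).eq)
    obtain ⟨Q, hQ⟩ := hH.exists_le_sylow
    obtain ⟨r, hr⟩ := MulAction.exists_smul_eq (PSL2 F) Q S
    have hm : ∀ u ∈ Subgroup.zpowers a ⊔ Subgroup.zpowers (π J), r * u * r⁻¹ ∈ (S : Subgroup (PSL2 F)) := by
      intro u hu
      rw [← hr, Sylow.smul_def, Sylow.pointwise_smul_def]
      exact ⟨u, hQ hu, rfl⟩
    have hsq : ∀ u : PSL2 F, u * u = 1 → ∀ h, (⟨r * u * r⁻¹, h⟩ : (S : Subgroup (PSL2 F))) ^ 2 = 1 :=
      fun u hu h => Subtype.ext (by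
        rw [pow_two, Subgroup.coe_mul, Subgroup.coe_one]
        rw [show r * u * r⁻¹ * (r * u * r⁻¹) = r * (u * u) * r⁻¹ by group, hu]; group)
    classical
    haveI := Fintype.ofFinite (S : Subgroup (PSL2 F))
    have hle := IsCyclic.card_pow_eq_one_le (α := (S : Subgroup (PSL2 F))) (n := 2) (by norm_num)
    set u : (S : Subgroup (PSL2 F)) := ⟨_, hm a (Subgroup.mem_sup_left (Subgroup.mem_zpowers a))⟩
    set v : (S : Subgroup (PSL2 F)) := ⟨_, hm _ (Subgroup.mem_sup_right (Subgroup.mem_zpowers (π J)))⟩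
    have hsub : ({1, u, v} : Finset (S : Subgroup (PSL2 F))) ⊆ Finset.univ.filter (fun w => w ^ 2 = 1) := by
      intro w hw
      simp only [Finset.mem_insert, Finset.mem_singleton] at hw
      rcases hw with rfl | rfl | rfl <;> simp only [Finset.mem_filter, Finset.mem_univ, true_and]
      · exact one_pow 2
      · exact hsq a ha2 _
      · exact hsq _ π_J_mul_self _
    have hu1 : u ≠ 1 := fun h => ha1 (conj_eq_one_iff.1 (congrArg Subtype.val h))
    have hv1 : v ≠ 1 := fun h => π_J_ne_one h2 (conj_eq_one_iff.1 (congrArg Subtype.val h))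
    have huv : u ≠ v := fun h => haJ (by simpa [u, v] using congrArg Subtype.val h)
    have h3 : ({1, u, v} : Finset (S : Subgroup (PSL2 F))).card = 3 := by
      rw [Finset.card_insert_of_notMem (by simp [hu1.symm, hv1.symm]),
        Finset.card_insert_of_notMem (by simp [huv]), Finset.card_singleton]
    have := (Finset.card_le_card hsub).trans hle
    omega
  refine ⟨K, hcyc, hKi, hinv, hex, ?_⟩
  by_contra hall
  push Not at hall
  have hc2 : Nat.card K ∣ 2 := by
    rw [← IsCyclic.exponent_eq_card (α := K)]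
    exact Monoid.exponent_dvd_of_forall_pow_eq_one fun k => Subtype.ext (by
      rw [pow_two]; exact hall k k.2)
  obtain ⟨x, hx⟩ := hex
  have hi : K.index ≤ 2 := by
    rw [Subgroup.index_eq_card]
    refine le_of_le_of_eq (Nat.card_le_card_of_surjective
      (fun b : Bool => if b then (x : _ ⧸ K) else ((1 : (S : Subgroup (PSL2 F))) : _ ⧸ K)) ?_) (by simp)
    intro q
    obtain ⟨y, rfl⟩ := QuotientGroup.mk_surjective q
    by_cases hy : y ∈ K
    · exact ⟨false, by simpa [QuotientGroup.eq] using hy⟩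
    · exact ⟨true, by simpa [QuotientGroup.eq] using hKi x y hx hy⟩
  have h4 : Nat.card (S : Subgroup (PSL2 F)) ≤ 4 := by
    rw [← K.card_mul_index]
    exact le_trans (Nat.mul_le_mul (Nat.le_of_dvd (by norm_num) hc2) hi) (by norm_num)
  have := Nat.le_of_dvd Nat.card_pos hS8
  omega

/-- An automorphism of odd order of a Sylow 2-subgroup is trivial. -/
theorem aut_sylow_eq_one [Fintype F] (hodd : Fintype.card F % 2 = 1)
    (h16 : 16 ∣ Fintype.card F ^ 2 - 1) (S : Sylow 2 (PSL2 F))
    (σ : MulAut (S : Subgroup (PSL2 F))) {m : ℕ} (hm : Odd m) (hσ : σ ^ m = 1) : σ = 1 := by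
  obtain ⟨K, hcyc, hKi, hinv, -, a, ha, ha2⟩ := sylow_structure hodd h16 S
  obtain ⟨g, hg⟩ := IsCyclic.exists_generator (α := K)
  have hmap : ∀ k ∈ K, σ k ∈ K := by
    intro k hk
    obtain ⟨i, hi⟩ := Subgroup.mem_zpowers_iff.1 (hg ⟨k, hk⟩)
    have hki : k = (g : (S : Subgroup (PSL2 F))) ^ i := by
      have := congrArg Subtype.val hi; push_cast at this; exact this.symm
    rw [hki, map_zpow]
    refine zpow_mem ?_ i
    by_contra hgK
    have h3 : g * g = 1 := Subtype.ext (σ.injective (by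
      rw [Subgroup.coe_mul, map_mul, hinv _ hgK, Subgroup.coe_one, map_one]))
    obtain ⟨b, hb⟩ := Subgroup.mem_zpowers_iff.1 (hg ⟨a, ha⟩)
    have h4 : (⟨a, ha⟩ : K) * ⟨a, ha⟩ = 1 := by
      rw [← hb, ← (Commute.refl g).mul_zpow, h3, _root_.one_zpow]
    exact ha2 (congrArg Subtype.val h4)
  let e : K →* K :=
    { toFun := fun k => ⟨σ k, hmap k k.2⟩
      map_one' := Subtype.ext (map_one σ)
      map_mul' := fun x y => Subtype.ext (map_mul σ _ _) }
  have hbij : Function.Bijective e := Finite.injective_iff_bijective.1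
    fun x y h => Subtype.ext (σ.injective (congrArg Subtype.val h))
  let e' : MulAut K := MulEquiv.ofBijective e hbij
  have hpow : ∀ (i : ℕ) (k : K), (((e' ^ i) k : K) : (S : Subgroup (PSL2 F))) = (σ ^ i) k := by
    intro i
    induction i with
    | zero => simp
    | succ i ih =>
      intro k
      rw [pow_succ', pow_succ', MulAut.mul_apply, MulAut.mul_apply, ← ih k]
      rfl
  have he : e' = 1 := CfsgLib.Invol.aut_eq_one_of_cyclic_two_group (S.isPGroup'.to_subgroup K) e' hm
    (MulEquiv.ext fun k => Subtype.ext (by rw [hpow, hσ]; rfl))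
  exact CfsgLib.Invol.aut_eq_one_of_fix_index_two S.isPGroup' σ hm hσ K hKi fun k hk => by
    have := congrArg Subtype.val (DFunLike.congr_fun he ⟨k, hk⟩)
    exact this

end CfsgLib.PSL2Two
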