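import Mathlib

/-!
# The relations of `SL(2, K)`

A group with two one-parameter families `x`, `y` such that `w t = x t * y (-t⁻¹) * x t` sends the first
family to the second as in `SL(2, K)` and has `h` multiplicative receives a homomorphism from `SL(2, K)`.
Over a finite field the multiplicativity is automatic.
-/

set_option autoImplicit false

namespace CfsgLib.Lie.SL2Rel

open Matrix

/-- the hypotheses -/
structure Fam (K H : Type*) [Field K] [Group H] where
  /-- upper family -/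
  x : K → H
  /-- lower family -/
  y : K → H
  x_add : ∀ a b, x (a + b) = x a * x b
  y_add : ∀ a b, y (a + b) = y a * y b
  rel : ∀ t u, t ≠ 0 →
    x t * y (-t⁻¹) * x t * x u * (x t * y (-t⁻¹) * x t)⁻¹ = y (-(t⁻¹ ^ 2 * u))

theorem val_mul' {K : Type*} [Field K] (a b : SpecialLinearGroup (Fin 2) K) : (a * b).1 = a.1 * b.1 := rfl

namespace Fam

variable {K H : Type*} [Field K] [Group H] (F : Fam K H)

theorem x_zero : F.x 0 = 1 := by
  have h := F.x_add 0 0
  rw [add_zero] at h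
  exact right_eq_mul.1 h

theorem y_zero : F.y 0 = 1 := by
  have h := F.y_add 0 0
  rw [add_zero] at h
  exact right_eq_mul.1 h

theorem x_inv (a : K) : (F.x a)⁻¹ = F.x (-a) := by
  rw [inv_eq_iff_mul_eq_one, ← F.x_add, add_neg_cancel, F.x_zero]

theorem y_inv (a : K) : (F.y a)⁻¹ = F.y (-a) := by
  rw [inv_eq_iff_mul_eq_one, ← F.y_add, add_neg_cancel, F.y_zero]

/-- `w t` -/
def w (t : K) : H := F.x t * F.y (-t⁻¹) * F.x t

/-- `h t` -/
def h (t : K) : H := F.w t * F.w (-1)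

theorem w_inv (t : K) : (F.w t)⁻¹ = F.w (-t) := by
  simp [w, F.x_inv, F.y_inv, mul_assoc, inv_neg]

theorem w_x {t : K} (ht : t ≠ 0) (u : K) : F.w t * F.x u = F.y (-(t⁻¹ ^ 2 * u)) * F.w t := by
  have := F.rel t u ht
  rw [mul_inv_eq_iff_eq_mul] at this
  exact this

theorem w_y {t : K} (ht : t ≠ 0) (v : K) : F.w t * F.y v = F.x (-(t ^ 2 * v)) * F.w t := by
  have h1 := F.w_x (t := -t) (neg_ne_zero.2 ht) (-(t ^ 2 * v))
  rw [← F.w_inv t, inv_mul_eq_iff_eq_mul, ← mul_assoc, eq_mul_inv_iff_mul_eq] at h1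
  rw [h1]
  congr 2
  field_simp

theorem w_eq_y {t : K} (ht : t ≠ 0) : F.w t = F.y (-t⁻¹) * F.x t * F.y (-t⁻¹) := by
  have h1 := F.w_x ht t
  have e : -(t⁻¹ ^ 2 * t) = -t⁻¹ := by field_simp
  rw [e] at h1
  have h2 : F.w t = F.y (-t⁻¹) * F.w t * F.x (-t) := by
    rw [← h1, ← F.x_inv, mul_inv_cancel_right]
  rw [h2, w]
  simp only [← mul_assoc]
  rw [mul_assoc _ (F.x t) (F.x (-t)), ← F.x_add, add_neg_cancel, F.x_zero, mul_one]

theorem w_conj {t : K} (ht : t ≠ 0) {s : K} (hs : s ≠ 0) :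
    F.w t * F.w s = F.w (t ^ 2 / s) * F.w t := by
  have e : F.w t * F.w s =
      F.y (-(t⁻¹ ^ 2 * s)) * F.x (-(t ^ 2 * -s⁻¹)) * F.y (-(t⁻¹ ^ 2 * s)) * F.w t := by
    conv_lhs => rw [show F.w s = F.x s * F.y (-s⁻¹) * F.x s from rfl]
    rw [← mul_assoc, ← mul_assoc, F.w_x ht, mul_assoc _ (F.w t), F.w_y ht, ← mul_assoc,
      mul_assoc _ (F.w t), F.w_x ht, ← mul_assoc]
  rw [e]
  have hne : t ^ 2 / s ≠ 0 := div_ne_zero (pow_ne_zero _ ht) hs
  have e1 : -(t⁻¹ ^ 2 * s) = -(t ^ 2 / s)⁻¹ := by field_simp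
  have e2 : -(t ^ 2 * -s⁻¹) = t ^ 2 / s := by ring
  rw [e1, e2, ← F.w_eq_y hne]

theorem h_one : F.h 1 = 1 := by rw [h, ← F.w_inv, mul_inv_cancel]

theorem w_eq_h (t : K) : F.w t = F.h t * F.w 1 := by
  rw [h, ← F.w_inv, inv_mul_cancel_right]

theorem h_x {t : K} (ht : t ≠ 0) (u : K) : F.h t * F.x u = F.x (t ^ 2 * u) * F.h t := by
  rw [h, mul_assoc, F.w_x (neg_ne_zero.2 one_ne_zero), ← mul_assoc, F.w_y ht, mul_assoc]
  congr 2
  ring

theorem h_y {t : K} (ht : t ≠ 0) (v : K) : F.h t * F.y v = F.y (t⁻¹ ^ 2 * v) * F.h t := by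
  rw [h, mul_assoc, F.w_y (neg_ne_zero.2 one_ne_zero), ← mul_assoc, F.w_x ht, mul_assoc]
  congr 2
  ring

theorem h_w {t : K} (ht : t ≠ 0) (s : K) : F.h t * F.w s = F.w (t ^ 2 * s) * F.h t := by
  rw [show F.w s = F.x s * F.y (-s⁻¹) * F.x s from rfl, ← mul_assoc, ← mul_assoc, F.h_x ht,
    mul_assoc _ (F.h t), F.h_y ht, ← mul_assoc, mul_assoc _ (F.h t), F.h_x ht, ← mul_assoc, w]
  congr 4
  rw [mul_inv, inv_pow]
  ring

/-- the classical identity for `t + s = 1` -/
theorem h_mul_of_add_eq_one {t s : K} (ht : t ≠ 0) (hs : s ≠ 0) (hts : t + s = 1) :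
    F.h t * F.h s = F.h (t * s) := by
  suffices e : F.w t * F.w (-1) * F.w s = F.w (t * s) by
    rw [h, h, h, ← mul_assoc, e]
  have h1 : F.y (-t⁻¹) * F.w (-1) = F.w (-1) * F.x t⁻¹ := by
    rw [F.w_x (neg_ne_zero.2 one_ne_zero)]
    congr 2
    ring
  have h2 : F.x (s / t) * F.w s = F.w s * F.y (-(t * s)⁻¹) := by
    rw [F.w_y hs]
    congr 2
    field_simp
  have h3 : F.y 1 * F.w s = F.w s * F.x (-s ^ 2) := by
    rw [F.w_x hs]
    congr 2
    field_simp
  have hts0 : t * s ≠ 0 := mul_ne_zero ht hs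
  calc F.w t * F.w (-1) * F.w s
      = F.y (-t⁻¹) * F.x t * (F.y (-t⁻¹) * F.w (-1)) * F.w s := by
        rw [F.w_eq_y ht]; simp only [mul_assoc]
    _ = F.y (-t⁻¹) * F.x t * (F.x (-1) * F.y 1 * F.x (-1) * F.x t⁻¹) * F.w s := by
        rw [h1]; simp [w]
    _ = F.y (-t⁻¹) * (F.x t * F.x (-1)) * F.y 1 * (F.x (-1) * F.x t⁻¹) * F.w s := by
        simp only [mul_assoc]
    _ = F.y (-t⁻¹) * F.x (-s) * F.y 1 * (F.x (s / t) * F.w s) := by
        rw [← F.x_add, ← F.x_add, show t + -1 = -s by linear_combination hts,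
          show -1 + t⁻¹ = s / t by field_simp; linear_combination -hts]
        simp only [mul_assoc]
    _ = F.y (-t⁻¹) * F.x (-s) * (F.y 1 * F.w s) * F.y (-(t * s)⁻¹) := by
        rw [h2]; simp only [mul_assoc]
    _ = F.y (-t⁻¹) * F.x (-s) * F.w s * F.x (-s ^ 2) * F.y (-(t * s)⁻¹) := by
        rw [h3]; simp only [mul_assoc]
    _ = F.y (-t⁻¹) * F.x (-s) * (F.x s * F.y (-s⁻¹) * F.x s) * F.x (-s ^ 2) *
          F.y (-(t * s)⁻¹) := rfl
    _ = F.y (-t⁻¹) * (F.x (-s) * F.x s) * F.y (-s⁻¹) * (F.x s * F.x (-s ^ 2)) *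
          F.y (-(t * s)⁻¹) := by simp only [mul_assoc]
    _ = F.y (-(t * s)⁻¹) * F.x (t * s) * F.y (-(t * s)⁻¹) := by
        rw [← F.x_add, neg_add_cancel, F.x_zero, mul_one, ← F.y_add, ← F.x_add,
          show -t⁻¹ + -s⁻¹ = -(t * s)⁻¹ by field_simp; linear_combination -hts,
          show s + -s ^ 2 = t * s by linear_combination -s * hts]
    _ = F.w (t * s) := (F.w_eq_y hts0).symm

/-- `h` is multiplicative -/
def Mult : Prop := ∀ t s : K, t ≠ 0 → s ≠ 0 → F.h t * F.h s = F.h (t * s)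

theorem symbol_comm {t s : K} (ht : t ≠ 0) (hs : s ≠ 0) :
    (∀ u, Commute (F.h t * F.h s * (F.h (t * s))⁻¹) (F.x u)) ∧
      ∀ u, Commute (F.h t * F.h s * (F.h (t * s))⁻¹) (F.y u) := by
  have hts : t * s ≠ 0 := mul_ne_zero ht hs
  constructor
  · intro u
    have e : (F.h (t * s))⁻¹ * F.x u = F.x (((t * s) ^ 2)⁻¹ * u) * (F.h (t * s))⁻¹ := by
      rw [inv_mul_eq_iff_eq_mul, ← mul_assoc, eq_mul_inv_iff_mul_eq, F.h_x hts,
        mul_inv_cancel_left₀ (pow_ne_zero _ hts)]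
    show _ * _ = _ * _
    rw [mul_assoc, e, ← mul_assoc, mul_assoc (F.h t), F.h_x hs, ← mul_assoc, F.h_x ht]
    simp only [mul_assoc]
    congr 2
    field_simp
  · intro u
    have e : (F.h (t * s))⁻¹ * F.y u = F.y ((t * s) ^ 2 * u) * (F.h (t * s))⁻¹ := by
      rw [inv_mul_eq_iff_eq_mul, ← mul_assoc, eq_mul_inv_iff_mul_eq, F.h_y hts, ← mul_assoc,
        ← mul_pow, inv_mul_cancel₀ hts, one_pow, one_mul]
    show _ * _ = _ * _
    rw [mul_assoc, e, ← mul_assoc, mul_assoc (F.h t), F.h_y hs, ← mul_assoc, F.h_y ht]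
    simp only [mul_assoc]
    congr 2
    field_simp

theorem symbol_comm_h {t s : K} (ht : t ≠ 0) (hs : s ≠ 0) (u : K) :
    Commute (F.h t * F.h s * (F.h (t * s))⁻¹) (F.h u) := by
  obtain ⟨hx, hy⟩ := F.symbol_comm ht hs
  exact ((((hx _).mul_right (hy _)).mul_right (hx _)).mul_right
    (((hx _).mul_right (hy _)).mul_right (hx _)))

section Finite

variable [Finite K]

theorem h_comm {t s : K} (ht : t ≠ 0) (hs : s ≠ 0) : Commute (F.h t) (F.h s) := by
  obtain ⟨g, hg⟩ := IsCyclic.exists_monoid_generator (α := Kˣ)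
  let C := Subgroup.closure {c : H | ∃ a b : K, a ≠ 0 ∧ b ≠ 0 ∧ c = F.h a * F.h b * (F.h (a * b))⁻¹}
  have hC : ∀ c ∈ C, ∀ u, Commute c (F.h u) := by
    intro c hc u
    induction hc using Subgroup.closure_induction with
    | mem c hc =>
      obtain ⟨a, b, ha, hb, rfl⟩ := hc
      exact F.symbol_comm_h ha hb u
    | one => exact Commute.one_left _
    | mul a b _ _ ha hb => exact ha.mul_left hb
    | inv a _ ha => exact ha.inv_left
  have hpow : ∀ n : ℕ, ∃ c ∈ C, F.h ((g : K) ^ n) = c * F.h (g : K) ^ n := by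
    intro n
    induction n with
    | zero => exact ⟨1, one_mem _, by simp [F.h_one]⟩
    | succ n ih =>
      obtain ⟨c, hc, e⟩ := ih
      have hn : (g : K) ^ n ≠ 0 := pow_ne_zero _ g.ne_zero
      refine ⟨(F.h ((g : K) ^ n) * F.h (g : K) * (F.h ((g : K) ^ n * g))⁻¹)⁻¹ * c,
        mul_mem (inv_mem (Subgroup.subset_closure ⟨_, _, hn, g.ne_zero, rfl⟩)) hc, ?_⟩
      rw [pow_succ, pow_succ, mul_assoc, ← mul_assoc c, ← e]
      group
  have hall : ∀ u : K, u ≠ 0 → ∃ c ∈ C, ∃ n : ℕ, F.h u = c * F.h (g : K) ^ n := by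
    intro u hu
    obtain ⟨n, hn⟩ := Submonoid.mem_powers_iff (Units.mk0 u hu) g |>.1 (hg _)
    have e : (g : K) ^ n = u := by rw [← Units.val_pow_eq_pow_val, hn]; rfl
    obtain ⟨c, hc, ec⟩ := hpow n
    exact ⟨c, hc, n, by rw [← e]; exact ec⟩
  obtain ⟨c, hc, m, em⟩ := hall t ht
  obtain ⟨d, hd, n, en⟩ := hall s hs
  have h1 : Commute c (F.h s) := hC c hc s
  have h2 : Commute (F.h (g : K) ^ m) (F.h s) := by
    rw [en]
    exact ((hC d hd _).symm.pow_left m).mul_right ((Commute.refl _).pow_pow m n)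
  rw [em]
  exact h1.mul_left h2

theorem h_sq_mul {t s : K} (ht : t ≠ 0) (hs : s ≠ 0) : F.h (t ^ 2 * s) = F.h (t ^ 2) * F.h s := by
  have e : F.h t * F.h s = F.h (t ^ 2 * s) * (F.h (t ^ 2))⁻¹ * F.h t := by
    have e0 : F.h t * F.h s = F.w (t ^ 2 * s) * F.w (t ^ 2 * -1) * F.h t := by
      conv_lhs => rw [show F.h s = F.w s * F.w (-1) from rfl]
      rw [← mul_assoc, F.h_w ht, mul_assoc, F.h_w ht, ← mul_assoc]
    have e1 : (F.h (t ^ 2))⁻¹ = F.w 1 * F.w (-(t ^ 2)) := by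
      rw [h, _root_.mul_inv_rev, F.w_inv, F.w_inv, neg_neg]
    rw [e0, e1, show F.h (t ^ 2 * s) = F.w (t ^ 2 * s) * (F.w 1)⁻¹ by rw [h, F.w_inv]]
    simp only [mul_assoc, inv_mul_cancel_left, mul_neg, mul_one]
  rw [(F.h_comm ht hs).eq, mul_left_inj, eq_mul_inv_iff_mul_eq] at e
  rw [← e, (F.h_comm (pow_ne_zero 2 ht) hs).eq]

theorem exists_nonsquares_add [Fintype K] {n : K} (hn : ¬IsSquare n) :
    ∃ a b : K, ¬IsSquare a ∧ ¬IsSquare b ∧ a + b = 1 := by
  classical
  by_contra hc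
  push_neg at hc
  let N : Finset K := Finset.univ.filter fun a => ¬IsSquare a
  let S : Finset K := Finset.univ.filter fun a => IsSquare a ∧ a ≠ 0
  have hn0 : n ≠ 0 := fun e => hn (e ▸ IsSquare.zero)
  have hNS : S.image (fun a => n * a) ⊆ N := by
    intro b hb
    obtain ⟨a, ha, rfl⟩ := Finset.mem_image.1 hb
    simp only [S, Finset.mem_filter, Finset.mem_univ, true_and] at ha
    simp only [N, Finset.mem_filter, Finset.mem_univ, true_and]
    intro hsq
    apply hn
    have := hsq.div ha.1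
    rwa [mul_div_assoc, div_self ha.2, mul_one] at this
  have h1 : S.card ≤ N.card := by
    rw [← Finset.card_image_of_injective S (mul_right_injective₀ hn0)]
    exact Finset.card_le_card hNS
  have h2 : N.image (fun a => 1 - a) ⊆ S.erase 1 := by
    intro b hb
    obtain ⟨a, ha, rfl⟩ := Finset.mem_image.1 hb
    simp only [N, Finset.mem_filter, Finset.mem_univ, true_and] at ha
    have hb : IsSquare (1 - a) := by
      by_contra hb
      exact hc a (1 - a) ha hb (add_sub_cancel a 1)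
    have ha0 : a ≠ 0 := fun e => ha (e ▸ IsSquare.zero)
    have ha1 : a ≠ 1 := fun e => ha (e ▸ IsSquare.one)
    simp only [S, Finset.mem_erase, Finset.mem_filter, Finset.mem_univ, true_and]
    exact ⟨fun e => ha0 (by linear_combination -e), hb, sub_ne_zero.2 (Ne.symm ha1)⟩
  have h3 : N.card ≤ (S.erase 1).card := by
    rw [← Finset.card_image_of_injective N sub_right_injective]
    exact Finset.card_le_card h2
  have h4 : (1 : K) ∈ S := by simp [S]
  rw [Finset.card_erase_of_mem h4] at h3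
  have := Finset.card_pos.2 ⟨1, h4⟩
  omega

theorem mult_of_finite : F.Mult := by
  classical
  have : Fintype K := Fintype.ofFinite K
  intro t s ht hs
  by_cases ha : IsSquare t
  · obtain ⟨p, rfl⟩ := ha
    rw [← sq]
    exact (F.h_sq_mul (mul_self_ne_zero.1 ht) hs).symm
  by_cases hb : IsSquare s
  · obtain ⟨p, rfl⟩ := hb
    rw [← sq, (F.h_comm ht (pow_ne_zero 2 (mul_self_ne_zero.1 hs))).eq, mul_comm t]
    exact (F.h_sq_mul (mul_self_ne_zero.1 hs) ht).symm
  obtain ⟨n, m, hn, hm, hnm⟩ := exists_nonsquares_add ha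
  have hn0 : n ≠ 0 := fun e => hn (e ▸ IsSquare.zero)
  have key : ∀ b : K, ¬IsSquare b → b ≠ 0 → ∃ p : K, p ≠ 0 ∧ b = p ^ 2 * n := by
    intro b hb hb0
    have h2 : ringChar K ≠ 2 := fun e => hb (FiniteField.isSquare_of_char_two e b)
    obtain ⟨p, hp⟩ : IsSquare (b / n) := by
      have e : IsSquare (b * n) := by
        rw [← quadraticChar_one_iff_isSquare (mul_ne_zero hb0 hn0), map_mul,
          quadraticChar_neg_one_iff_not_isSquare.2 hb, quadraticChar_neg_one_iff_not_isSquare.2 hn]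
        rfl
      have := e.div (IsSquare.mul_self n)
      rwa [mul_div_mul_right _ _ hn0] at this
    refine ⟨p, fun e => ?_, ?_⟩
    · rw [e, mul_zero, div_eq_zero_iff] at hp
      exact hp.elim hb0 hn0
    · rw [sq, ← hp, div_mul_cancel₀ _ hn0]
  obtain ⟨p, hp, rfl⟩ := key m hm (fun e => hm (e ▸ IsSquare.zero))
  have hnn : F.h n * F.h n = F.h (n * n) := by
    have e := F.h_mul_of_add_eq_one hn0 (mul_ne_zero (pow_ne_zero 2 hp) hn0) hnm
    rw [F.h_sq_mul hp hn0, show n * (p ^ 2 * n) = p ^ 2 * (n * n) by ring,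
      F.h_sq_mul hp (mul_ne_zero hn0 hn0), ← mul_assoc, (F.h_comm hn0 (pow_ne_zero 2 hp)).eq,
      mul_assoc] at e
    exact mul_left_cancel e
  obtain ⟨a, ha0, rfl⟩ := key t ha ht
  obtain ⟨b, hb0, rfl⟩ := key s hb hs
  have hab : a * b ≠ 0 := mul_ne_zero ha0 hb0
  rw [show a ^ 2 * n * (b ^ 2 * n) = (a * b) ^ 2 * (n * n) by ring,
    F.h_sq_mul ha0 hn0, F.h_sq_mul hb0 hn0, F.h_sq_mul hab (mul_ne_zero hn0 hn0), ← hnn,
    mul_pow, F.h_sq_mul ha0 (pow_ne_zero 2 hb0)]
  simp only [mul_assoc]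
  congr 1
  rw [← mul_assoc, (F.h_comm hn0 (pow_ne_zero 2 hb0)).eq, mul_assoc]

end Finite

/-! ### The homomorphism -/

/-- the value on a matrix -/
noncomputable def val (g : SpecialLinearGroup (Fin 2) K) : H :=
  open Classical in
  if g.1 1 0 = 0 then F.h (g.1 0 0) * F.x (g.1 0 1 / g.1 0 0)
  else F.x (g.1 0 0 / g.1 1 0) * F.w (-(g.1 1 0)⁻¹) * F.x (g.1 1 1 / g.1 1 0)

theorem val_eq_zero {g : SpecialLinearGroup (Fin 2) K} {a b : K} (hc : g.1 1 0 = 0) (ha : g.1 0 0 = a)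
    (hb : g.1 0 1 = b) : F.val g = F.h a * F.x (b / a) := by
  rw [val, if_pos hc, ha, hb]

theorem val_eq_ne {g : SpecialLinearGroup (Fin 2) K} {a c d : K} (hc : g.1 1 0 = c) (hc0 : c ≠ 0)
    (ha : g.1 0 0 = a) (hd : g.1 1 1 = d) :
    F.val g = F.x (a / c) * F.w (-c⁻¹) * F.x (d / c) := by
  rw [val, if_neg (by rw [hc]; exact hc0), hc, ha, hd]

theorem w_sq (hm : F.Mult) : F.w 1 * F.w 1 = F.h (-1) := by
  have e : F.h (-1) * F.h (-1) = 1 := by
    rw [hm _ _ (neg_ne_zero.2 one_ne_zero) (neg_ne_zero.2 one_ne_zero), neg_mul_neg, one_mul, F.h_one]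
  have e2 : F.w 1 * F.w 1 = (F.h (-1))⁻¹ := by rw [h, _root_.mul_inv_rev, F.w_inv, neg_neg]
  rw [e2, inv_eq_of_mul_eq_one_right e]

theorem w_one_h {s : K} (hs : s ≠ 0) : F.w 1 * F.h s = F.h s⁻¹ * F.w 1 := by
  rw [h, ← mul_assoc, F.w_conj one_ne_zero hs, mul_assoc, F.w_conj one_ne_zero
    (neg_ne_zero.2 one_ne_zero), ← mul_assoc, h]
  congr 3 <;> field_simp

theorem w_h (hm : F.Mult) {t s : K} (ht : t ≠ 0) (hs : s ≠ 0) : F.w t * F.h s = F.w (t / s) := by
  rw [F.w_eq_h t, mul_assoc, F.w_one_h hs, ← mul_assoc, hm t _ ht (inv_ne_zero hs), ← div_eq_mul_inv,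
    ← F.w_eq_h]

theorem w_w (hm : F.Mult) {t s : K} (ht : t ≠ 0) (hs : s ≠ 0) : F.w t * F.w s = F.h (-(t / s)) := by
  rw [F.w_eq_h s, ← mul_assoc, F.w_h hm ht hs, F.w_eq_h (t / s), mul_assoc, F.w_sq hm,
    hm _ _ (div_ne_zero ht hs) (neg_ne_zero.2 one_ne_zero), mul_neg_one]

theorem val_x_mul (g : SpecialLinearGroup (Fin 2) K) (n : SpecialLinearGroup (Fin 2) K) {s : K}
    (hn : n.1 = !![1, s; 0, 1]) : F.val (n * g) = F.x s * F.val g := by
  have hd : g.1 0 0 * g.1 1 1 - g.1 0 1 * g.1 1 0 = 1 := by rw [← det_fin_two]; exact g.2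
  have e : (n * g).1 = !![1, s; 0, 1] * g.1 := by rw [val_mul', hn]
  have e00 : (n * g).1 0 0 = g.1 0 0 + s * g.1 1 0 := by simp [e, vecMul, dotProduct]
  have e01 : (n * g).1 0 1 = g.1 0 1 + s * g.1 1 1 := by simp [e, vecMul, dotProduct]
  have e10 : (n * g).1 1 0 = g.1 1 0 := by simp [e, vecMul, dotProduct]
  have e11 : (n * g).1 1 1 = g.1 1 1 := by simp [e, vecMul, dotProduct]
  by_cases hc : g.1 1 0 = 0
  · simp only [hc, mul_zero, add_zero, sub_zero] at hd e00
    have ha : g.1 0 0 ≠ 0 := fun e => by simp [e] at hd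
    rw [F.val_eq_zero (e10.trans hc) e00 e01, F.val_eq_zero hc rfl rfl, ← mul_assoc (F.x s)]
    have e2 : F.x s * F.h (g.1 0 0) = F.h (g.1 0 0) * F.x (s / g.1 0 0 ^ 2) := by
      rw [F.h_x ha]
      congr 2
      field_simp
    rw [e2, mul_assoc, ← F.x_add]
    congr 2
    field_simp
    linear_combination s * hd
  · rw [F.val_eq_ne e10 hc e00 e11, F.val_eq_ne rfl hc rfl rfl, ← mul_assoc, ← mul_assoc, ← F.x_add]
    congr 3
    field_simp
    ring

theorem val_w_mul (hm : F.Mult) (g : SpecialLinearGroup (Fin 2) K) (n : SpecialLinearGroup (Fin 2) K)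
    (hn : n.1 = !![0, -1; 1, 0]) : F.val (n * g) = F.w (-1) * F.val g := by
  have hd : g.1 0 0 * g.1 1 1 - g.1 0 1 * g.1 1 0 = 1 := by rw [← det_fin_two]; exact g.2
  have e : (n * g).1 = !![0, -1; 1, 0] * g.1 := by rw [val_mul', hn]
  have e00 : (n * g).1 0 0 = -g.1 1 0 := by simp [e, vecMul, dotProduct]
  have e01 : (n * g).1 0 1 = -g.1 1 1 := by simp [e, vecMul, dotProduct]
  have e10 : (n * g).1 1 0 = g.1 0 0 := by simp [e, vecMul, dotProduct]
  have e11 : (n * g).1 1 1 = g.1 0 1 := by simp [e, vecMul, dotProduct]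
  set a := g.1 0 0 with ea
  set b := g.1 0 1 with eb
  set c := g.1 1 0 with ec
  set d := g.1 1 1 with ed
  have h1 : (-1 : K) ≠ 0 := neg_ne_zero.2 one_ne_zero
  by_cases hc : c = 0
  · rw [hc, mul_zero, sub_zero] at hd
    rw [hc, neg_zero] at e00
    have ha : a ≠ 0 := fun e => by simp [e] at hd
    rw [F.val_eq_ne e10 ha e00 e11, F.val_eq_zero (ec.symm.trans hc) ea.symm eb.symm, zero_div,
      F.x_zero, one_mul, ← mul_assoc, F.w_h hm h1 ha, neg_div, one_div]
  · by_cases ha : a = 0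
    · rw [F.val_eq_zero (e10.trans ha) e00 e01, F.val_eq_ne ec.symm hc ea.symm ed.symm, ha, zero_div,
        F.x_zero, one_mul, neg_div_neg_eq]
      have hw : -c⁻¹ ≠ 0 := neg_ne_zero.2 (inv_ne_zero hc)
      rw [← mul_assoc, F.w_w hm h1 hw]
      congr 2
      field_simp
    · rw [F.val_eq_ne e10 ha e00 e11, F.val_eq_ne ec.symm hc ea.symm ed.symm]
      have hu : -(a / c) ≠ 0 := neg_ne_zero.2 (div_ne_zero ha hc)
      have hv : c / a ≠ 0 := div_ne_zero hc ha
      have e1 : F.w (-1) * F.x (a / c) = F.y (-(a / c)) * F.w (-1) := by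
        rw [F.w_x h1]; congr 2; ring
      have e2 : F.y (-(a / c)) = F.x (-(c / a)) * F.w (c / a) * F.x (-(c / a)) := by
        rw [w, ← F.x_inv, inv_div]
        group
      have hw : -c⁻¹ ≠ 0 := neg_ne_zero.2 (inv_ne_zero hc)
      have hnc : -c ≠ 0 := neg_ne_zero.2 hc
      have e3 : F.w (-1) * F.w (-c⁻¹) = F.h (-c) := by
        rw [F.w_w hm h1 hw]; congr 1; field_simp
      have e4 : F.x (-(c / a)) * F.h (-c) = F.h (-c) * F.x (-(1 / (a * c))) := by
        rw [F.h_x hnc]; congr 2; field_simp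
      have e5 : F.w (c / a) * F.h (-c) = F.w (-a⁻¹) := by
        rw [F.w_h hm hv hnc]; congr 1; field_simp
      calc F.x (-c / a) * F.w (-a⁻¹) * F.x (b / a)
          = F.x (-(c / a)) * (F.w (c / a) * F.h (-c)) * (F.x (-(1 / (a * c))) * F.x (d / c)) := by
            rw [e5, ← F.x_add, neg_div]
            congr 2
            field_simp
            linear_combination -hd
        _ = F.x (-(c / a)) * F.w (c / a) * (F.h (-c) * F.x (-(1 / (a * c)))) * F.x (d / c) := by
            simp only [mul_assoc]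
        _ = F.x (-(c / a)) * F.w (c / a) * F.x (-(c / a)) * (F.w (-1) * F.w (-c⁻¹)) * F.x (d / c) := by
            rw [← e4, e3]; simp only [mul_assoc]
        _ = F.y (-(a / c)) * F.w (-1) * (F.w (-c⁻¹) * F.x (d / c)) := by
            rw [e2]; simp only [mul_assoc]
        _ = F.w (-1) * (F.x (a / c) * F.w (-c⁻¹) * F.x (d / c)) := by
            rw [← e1]; simp only [mul_assoc]

/-- the upper unipotent matrix -/
def upper (t : K) : SpecialLinearGroup (Fin 2) K := ⟨!![1, t; 0, 1], by simp⟩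

/-- the lower unipotent matrix -/
def lower (t : K) : SpecialLinearGroup (Fin 2) K := ⟨!![1, 0; t, 1], by simp⟩

/-- the Weyl element -/
def wel : SpecialLinearGroup (Fin 2) K := ⟨!![0, -1; 1, 0], by simp⟩

theorem mem_gens {P : SpecialLinearGroup (Fin 2) K → Prop} (hmul : ∀ a b, P a → P b → P (a * b))
    (hu : ∀ t, P (upper t)) (hw : P wel) (g : SpecialLinearGroup (Fin 2) K) : P g := by
  have hl : ∀ t, P (lower t) := by
    intro t
    have e : lower t = wel * upper (-t) * wel * wel * wel := by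
      refine Subtype.ext ?_
      simp only [val_mul']
      ext i j
      fin_cases i <;> fin_cases j <;> simp [lower, upper, wel, Matrix.mul_apply, Fin.sum_univ_two]
    rw [e]
    exact hmul _ _ (hmul _ _ (hmul _ _ (hmul _ _ hw (hu _)) hw) hw) hw
  have hd : g.1 0 0 * g.1 1 1 - g.1 0 1 * g.1 1 0 = 1 := by rw [← det_fin_two]; exact g.2
  by_cases hc : g.1 1 0 = 0
  · have ha : g.1 0 0 ≠ 0 := fun e => by simp [e, hc] at hd
    have e : g = lower ((1 - g.1 0 0) / g.1 0 0) * upper 1 * lower (g.1 0 0 - 1) *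
        upper (-(g.1 0 0)⁻¹ + g.1 0 1 / g.1 0 0) := by
      simp only [hc, mul_zero, sub_zero] at hd
      refine Subtype.ext ?_
      simp only [val_mul']
      ext i j
      fin_cases i <;> fin_cases j <;> simp [lower, upper, hc, Matrix.mul_apply, Fin.sum_univ_two]
      all_goals field_simp
      all_goals first
        | ring1
        | linear_combination hd
        | linear_combination -hd
        | linear_combination g.1 0 0 * hd
    rw [e]
    exact hmul _ _ (hmul _ _ (hmul _ _ (hl _) (hu _)) (hl _)) (hu _)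
  · have e : g = upper ((g.1 0 0 - 1) / g.1 1 0) * lower (g.1 1 0) *
        upper ((g.1 1 1 - 1) / g.1 1 0) := by
      refine Subtype.ext ?_
      simp only [val_mul']
      ext i j
      fin_cases i <;> fin_cases j <;> simp [lower, upper, Matrix.mul_apply, Fin.sum_univ_two]
      all_goals field_simp
      all_goals first
        | ring1
        | linear_combination hd
        | linear_combination -hd
        | linear_combination g.1 0 0 * hd
    rw [e]
    exact hmul _ _ (hmul _ _ (hu _) (hl _)) (hu _)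

/-- the homomorphism from `SL(2, K)` -/
noncomputable def hom (hm : F.Mult) : SpecialLinearGroup (Fin 2) K →* H :=
  MonoidHom.mk' F.val fun a b => by
    have e1 : F.val (1 : SpecialLinearGroup (Fin 2) K) = 1 := by simp [val, F.h_one, F.x_zero]
    have hgen : ∀ s g, F.val (s * g) = F.val s * F.val g := by
      intro s
      refine mem_gens (P := fun s => ∀ g, F.val (s * g) = F.val s * F.val g) ?_ ?_ ?_ s
      · intro s t hs ht g
        rw [mul_assoc, hs, ht, hs t, mul_assoc]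
      · intro t g
        have e := F.val_x_mul 1 (upper t) (s := t) rfl
        rw [mul_one, e1, mul_one] at e
        rw [e]
        exact F.val_x_mul g (upper t) rfl
      · intro g
        have e := F.val_w_mul hm 1 wel rfl
        rw [mul_one, e1, mul_one] at e
        rw [e]
        exact F.val_w_mul hm g wel rfl
    exact hgen a b

theorem hom_upper (hm : F.Mult) (t : K) : F.hom hm (upper t) = F.x t := by
  show F.val _ = _
  simp [val, upper, F.h_one]

theorem hom_lower (hm : F.Mult) (t : K) : F.hom hm (lower t) = F.y t := by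
  show F.val _ = _
  by_cases ht : t = 0
  · simp [val, lower, ht, F.h_one, F.x_zero, F.y_zero]
  · rw [F.val_eq_ne (a := 1) (c := t) (d := 1) (by simp [lower]) ht (by simp [lower]) (by simp [lower]), one_div]
    rw [w, ← F.x_inv, inv_neg, neg_neg, inv_inv]
    group

theorem hom_range (hm : F.Mult) :
    (F.hom hm).range = Subgroup.closure (Set.range F.x ∪ Set.range F.y) := by
  refine le_antisymm ?_ ((Subgroup.closure_le _).2 ?_)
  · rintro _ ⟨g, rfl⟩
    show F.val g ∈ _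
    have hx : ∀ t, F.x t ∈ Subgroup.closure (Set.range F.x ∪ Set.range F.y) :=
      fun t => Subgroup.subset_closure (Or.inl ⟨t, rfl⟩)
    have hw : ∀ t, F.w t ∈ Subgroup.closure (Set.range F.x ∪ Set.range F.y) :=
      fun t => mul_mem (mul_mem (hx _) (Subgroup.subset_closure (Or.inr ⟨_, rfl⟩))) (hx _)
    unfold val
    split
    · exact mul_mem (mul_mem (hw _) (hw _)) (hx _)
    · exact mul_mem (mul_mem (hx _) (hw _)) (hx _)
  · rintro _ (⟨t, rfl⟩ | ⟨t, rfl⟩)
    · exact ⟨upper t, F.hom_upper hm t⟩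
    · exact ⟨lower t, F.hom_lower hm t⟩

end Fam

end CfsgLib.Lie.SL2Rel
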