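import Mathlib
import Cfsg.Agent.Lib.Classical.ProjLine

/-!
# A commuting pair of `SL(2,q)`, `q` odd, and its outer elements
-/

set_option autoImplicit false
set_option linter.style.haveILetI false

open Matrix Subgroup

namespace CfsgLib.CentralPair

variable {F : Type*} [Field F] [Fintype F]

local notation "SL₂" => Matrix.SpecialLinearGroup (Fin 2) F
local notation "PSL₂" => Matrix.ProjectiveSpecialLinearGroup (Fin 2) F

theorem two_ne_zero_of_odd (hF : Odd (Fintype.card F)) : (2 : F) ≠ 0 := by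
  intro h
  haveI : Fact (Nat.Prime 2) := ⟨Nat.prime_two⟩
  haveI : CharP F 2 := CharTwo.of_one_ne_zero_of_two_eq_zero one_ne_zero h
  obtain ⟨n, -, hn⟩ := FiniteField.card F 2
  exact Nat.not_even_iff_odd.2 hF (hn ▸ (Nat.even_pow.2 ⟨even_two, n.ne_zero⟩))

/-- The upper transvection. -/
def upper : SL₂ := ⟨!![1, 1; 0, 1], by simp [Matrix.det_fin_two]⟩
/-- The lower transvection. -/
def lower : SL₂ := ⟨!![1, 0; 1, 1], by simp [Matrix.det_fin_two]⟩

theorem center_psl_eq_bot (hF : Odd (Fintype.card F)) : center PSL₂ = ⊥ := by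
  have h2 := two_ne_zero_of_odd hF
  rw [eq_bot_iff]
  intro x hx
  obtain ⟨A, rfl⟩ := QuotientGroup.mk_surjective x
  rw [mem_bot, QuotientGroup.eq_one_iff, Matrix.SpecialLinearGroup.mem_center_iff]
  have key : ∀ u : SL₂, u.1 0 0 + u.1 1 1 = 2 → A.1 * u.1 = u.1 * A.1 := by
    intro u hu
    have h1 := mem_center_iff.1 hx (QuotientGroup.mk u)
    rw [← QuotientGroup.mk_mul, ← QuotientGroup.mk_mul, QuotientGroup.eq,
      Matrix.SpecialLinearGroup.mem_center_iff] at h1
    obtain ⟨r, hr, he⟩ := h1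
    rw [Fintype.card_fin] at hr
    rcases mul_self_eq_one_iff.1 ((sq r).symm.trans hr) with rfl | rfl
    · have h3 : (u * A)⁻¹ * (A * u) = (1 : SL₂) := Subtype.ext (by rw [← he, map_one]; rfl)
      have h4 : u * A = A * u := by
        calc u * A = u * A * ((u * A)⁻¹ * (A * u)) := by rw [h3, mul_one]
          _ = A * u := mul_inv_cancel_left _ _
      exact (congrArg Subtype.val h4).symm
    · exfalso
      have hm : (A * u).1 = -(u * A).1 := by
        have h4 : ((u * A) * ((u * A)⁻¹ * (A * u))).1 = (u * A).1 * ((u * A)⁻¹ * (A * u)).1 := rfl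
        rw [mul_inv_cancel_left, ← he, map_neg, map_one, mul_neg, mul_one] at h4
        exact h4
      have hm' : A.1 * u.1 = -(u.1 * A.1) := hm
      have hd : A.1.det = 1 := A.2
      have h5 : A.1 * u.1 * A.1.adjugate = -u.1 := by
        rw [hm', neg_mul, mul_assoc, Matrix.mul_adjugate, hd, one_smul, mul_one]
      have h6 := congrArg Matrix.trace h5
      rw [mul_assoc, Matrix.trace_mul_comm, mul_assoc, Matrix.adjugate_mul, hd, one_smul, mul_one,
        Matrix.trace_neg, Matrix.trace_fin_two, hu] at h6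
      have h7 : (2 : F) * 2 = 0 := by linear_combination h6
      exact h2 ((mul_eq_zero.1 h7).elim id id)
  have hU := key upper (by simp [upper]; norm_num)
  have hL := key lower (by simp [lower]; norm_num)
  have e1 := congrFun (congrFun hU 0) 1
  have e2 := congrFun (congrFun hU 0) 0
  have e3 := congrFun (congrFun hL 0) 0
  simp [upper, lower, Matrix.mul_apply, Fin.sum_univ_two] at e1 e2 e3
  have h10 : A.1 1 0 = 0 := by first | exact e2 | exact e2.symm
  have h01 : A.1 0 1 = 0 := by first | exact e3 | exact e3.symm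
  have h00 : A.1 1 1 = A.1 0 0 := by first | linear_combination e1 | linear_combination -e1
  refine ⟨A.1 0 0, ?_, ?_⟩
  · have := A.2
    rw [Matrix.det_fin_two, h10, h01, h00] at this
    rw [Fintype.card_fin]; linear_combination this
  · ext i k
    fin_cases i <;> fin_cases k <;> simp [h10, h01, h00, Matrix.scalar_apply]

theorem card_psl_of_three (h3 : Fintype.card F = 3) : Nat.card PSL₂ = 12 := by
  have h := CfsgLib.Classical.card_psl2 (F := F)
  rw [h3] at h
  norm_num at h
  omega

/-- `PSL(2,q)`, `q` odd, is not generated by two proper commuting subgroups. -/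
theorem eq_bot_or_eq_bot_of_commute (hF : Odd (Fintype.card F)) {A B : Subgroup PSL₂}
    (hc : ∀ a ∈ A, ∀ b ∈ B, a * b = b * a) (hs : A ⊔ B = ⊤) : A = ⊥ ∨ B = ⊥ := by
  classical
  have hz := center_psl_eq_bot hF
  have cen : ∀ X Y : Subgroup PSL₂, X ⊔ Y = ⊤ → (∀ x ∈ X, ∀ y ∈ Y, x * y = y * x) →
      (∀ x ∈ X, ∀ y ∈ X, x * y = y * x) → X = ⊥ := by
    intro X Y hs hc hcx
    rw [eq_bot_iff, ← hz]
    intro x hx
    refine mem_center_iff.2 fun g => ?_
    have hg : g ∈ centralizer ({x} : Set PSL₂) := by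
      refine (sup_le ?_ ?_ : X ⊔ Y ≤ centralizer ({x} : Set PSL₂)) (hs ▸ mem_top g)
      · exact fun y hy => mem_centralizer_singleton_iff.2 (hcx y hy x hx)
      · exact fun y hy => mem_centralizer_singleton_iff.2 (hc x hx y hy).symm
    exact mem_centralizer_singleton_iff.1 hg
  have hinf : A ⊓ B = ⊥ := by
    rw [eq_bot_iff, ← hz]
    intro x hx
    refine mem_center_iff.2 fun g => ?_
    have hg : g ∈ centralizer ({x} : Set PSL₂) := by
      refine (sup_le ?_ ?_ : A ⊔ B ≤ centralizer ({x} : Set PSL₂)) (hs ▸ mem_top g)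
      · exact fun y hy => mem_centralizer_singleton_iff.2 (hc y hy x hx.2)
      · exact fun y hy => mem_centralizer_singleton_iff.2 (hc x hx.1 y hy).symm
    exact mem_centralizer_singleton_iff.1 hg
  have hAn : A.Normal := by
    refine normalizer_eq_top_iff.1 (top_unique (hs ▸ sup_le le_normalizer fun b hb => ?_))
    refine mem_normalizer_iff.2 fun x => ⟨fun hx => ?_, fun hx => ?_⟩
    · rwa [← hc x hx b hb, mul_inv_cancel_right]
    · have h := hc _ hx b hb
      have : x = b * x * b⁻¹ := by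
        calc x = b⁻¹ * (b * x * b⁻¹ * b) := by group
          _ = b⁻¹ * (b * (b * x * b⁻¹)) := by rw [h]
          _ = b * x * b⁻¹ := by group
      rwa [this]
  by_cases h4 : 4 ≤ Fintype.card F
  · haveI := Matrix.ProjectiveSpecialLinearGroup.rank_two_simple (F := F)
      (by rwa [Nat.card_eq_fintype_card])
    rcases hAn.eq_bot_or_eq_top with h | h
    · exact Or.inl h
    · exact Or.inr (by rw [← hinf, h, top_inf_eq])
  · have hq : Fintype.card F = 3 := by
      have := Fintype.one_lt_card (α := F)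
      obtain ⟨k, hk⟩ := hF
      omega
    have hcard : Nat.card A * Nat.card B = 12 := by
      haveI := hAn
      rw [← card_psl_of_three hq, ← A.card_mul_index]
      congr 1
      have h := relIndex_sup_right (H := B) (K := A)
      rw [sup_comm, hs, relIndex_top_right] at h
      rw [h, ← relIndex_bot_left, ← inf_relIndex_right A B, hinf]
    have small : ∀ X : Subgroup PSL₂, Nat.card X ≤ 3 → ∀ x ∈ X, ∀ y ∈ X, x * y = y * x := by
      intro X hX x hx y hy
      have hpos : 0 < Nat.card X := Nat.card_pos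
      haveI : IsCyclic X := by
        rcases Nat.lt_or_ge (Nat.card X) 2 with h | h
        · haveI : Subsingleton X := (Nat.card_eq_one_iff_unique.1 (by omega)).1
          infer_instance
        · have hp : (Nat.card X).Prime := by
            interval_cases Nat.card X
            · exact Nat.prime_two
            · exact Nat.prime_three
          haveI := Fact.mk hp
          exact isCyclic_of_prime_card rfl
      have := IsCyclic.commutative (α := X)
      exact congrArg Subtype.val (mul_comm' (⟨x, hx⟩ : X) ⟨y, hy⟩)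
    by_cases hA : Nat.card A ≤ 3
    · exact Or.inl (cen A B hs hc (small A hA))
    · refine Or.inr (cen B A (sup_comm A B ▸ hs) (fun b hb a ha => (hc a ha b hb).symm) (small B ?_))
      by_contra hB
      push Not at hA hB
      nlinarith

variable {G : Type*} [Group G] [Finite G]

/-- If commuting subgroups `X`, `Y` generate a central product `L L'` with `L ≅ SL(2,q)`, one of
them lies in `L'`. -/
theorem le_of_commute_generate (hF : Odd (Fintype.card F)) {L L' X Y : Subgroup G}
    (e : L ≃* SL₂) (hc : ∀ x ∈ L, ∀ y ∈ L', x * y = y * x) (j : G) (hj : orderOf j = 2)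
    (hm : L ⊓ L' = zpowers j) (hXY : ∀ x ∈ X, ∀ y ∈ Y, x * y = y * x) (hgen : X ⊔ Y = L ⊔ L') :
    X ≤ L' ∨ Y ≤ L' := by
  classical
  have hdec : ∀ x ∈ L ⊔ L', ∃ a ∈ L, ∃ b ∈ L', a * b = x := by
    have hn : L ≤ normalizer (L' : Set G) := fun a ha => mem_normalizer_iff.2 fun b =>
      ⟨fun hb => by rw [hc a ha b hb, mul_inv_cancel_right]; exact hb, fun hb => by
        have h := hc a ha _ hb
        have : b = a * b * a⁻¹ := by
          calc b = a⁻¹ * (a * b * a⁻¹ * a) := by group
            _ = a⁻¹ * (a * (a * b * a⁻¹)) := by rw [h]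
            _ = a * b * a⁻¹ := by group
        rwa [this]⟩
    intro x hx
    have := SetLike.mem_coe.2 hx
    rw [coe_mul_of_left_le_normalizer_right _ _ hn] at this
    exact this
  set π : L →* PSL₂ := (QuotientGroup.mk' _).comp e.toMonoidHom with hπ
  have hπs : Function.Surjective π := (QuotientGroup.mk'_surjective _).comp e.surjective
  have hjL : zpowers j ≤ L := hm ▸ inf_le_left
  have hker : π.ker = (zpowers j).subgroupOf L := by
    have hcard : Nat.card π.ker ≤ 2 := by
      have h1 : Nat.card π.ker ≤ Nat.card (center SL₂) :=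
        Nat.card_le_card_of_injective (fun a => ⟨e a.1, (QuotientGroup.eq_one_iff _).1 a.2⟩)
          (fun a b h => Subtype.ext (e.injective (congrArg Subtype.val h)))
      rw [CfsgLib.Classical.card_center_sl (by omega)] at h1
      exact h1.trans (Nat.le_of_dvd two_pos (Nat.gcd_dvd_left _ _))
    refine (eq_of_le_of_card_ge ?_ ?_).symm
    · intro a ha
      have hac : a ∈ center L := mem_center_iff.2 fun l => Subtype.ext (by
        have : (a : G) ∈ L ⊓ L' := hm.symm ▸ mem_subgroupOf.1 ha
        exact hc l l.2 a this.2)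
      refine (QuotientGroup.eq_one_iff _).2 (mem_center_iff.2 fun s => ?_)
      obtain ⟨l, rfl⟩ := e.surjective s
      exact (map_mul e l a).symm.trans ((congrArg e (mem_center_iff.1 hac l)).trans (map_mul e a l))
    · rw [Nat.card_congr (subgroupOfEquivOfLe hjL).toEquiv, Nat.card_zpowers, hj]
      exact hcard
  set A : Subgroup L := (X ⊔ L').subgroupOf L with hA
  set B : Subgroup L := (Y ⊔ L').subgroupOf L with hB
  have hXM : X ≤ L ⊔ L' := hgen ▸ le_sup_left
  have hYM : Y ≤ L ⊔ L' := hgen ▸ le_sup_right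
  have part : ∀ Z : Subgroup G, Z ≤ L ⊔ L' → ∀ a : L, (a : G) ∈ Z ⊔ L' →
      ∃ z ∈ Z, ∃ b ∈ L', (a : G) = z * b := by
    intro Z hZ a ha
    have hn : Z ≤ normalizer (L' : Set G) := by
      refine hZ.trans (sup_le (fun x hx => mem_normalizer_iff.2 fun y => ?_) le_normalizer)
      constructor
      · intro hy; rw [hc x hx y hy, mul_inv_cancel_right]; exact hy
      · intro hy
        have h := hc x hx _ hy
        have : y = x * y * x⁻¹ := by
          calc y = x⁻¹ * (x * y * x⁻¹ * x) := by group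
            _ = x⁻¹ * (x * (x * y * x⁻¹)) := by rw [h]
            _ = x * y * x⁻¹ := by group
        rwa [this]
    have := SetLike.mem_coe.2 ha
    rw [coe_mul_of_left_le_normalizer_right _ _ hn] at this
    obtain ⟨z, hz, b, hb, he⟩ := this
    exact ⟨z, hz, b, hb, he.symm⟩
  have hcAB : ∀ a ∈ A, ∀ b ∈ B, π a * π b = π b * π a := by
    intro a ha b hb
    obtain ⟨x, hx, u, hu, hxu⟩ := part X hXM a ha
    obtain ⟨y, hy, v, hv, hyv⟩ := part Y hYM b hb
    have h1 : ((a * b * a⁻¹ * b⁻¹ : L) : G) ∈ L' := by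
      have hcu : ∀ w ∈ L', Commute (w : G) (a : G) ∧ Commute w (b : G) := fun w hw =>
        ⟨(hc a a.2 w hw).symm, (hc b b.2 w hw).symm⟩
      have e1 : (a : G) * b * (a : G)⁻¹ * (b : G)⁻¹ = v⁻¹ * u⁻¹ * v * u := by
        have hx' : x = (a : G) * u⁻¹ := by rw [hxu]; group
        have hy' : y = (b : G) * v⁻¹ := by rw [hyv]; group
        have hxy := hXY x hx y hy
        rw [hx', hy'] at hxy
        have c1 : Commute u⁻¹ (b : G) := ((hcu u hu).2).inv_left
        have c2 : Commute v⁻¹ (a : G) := ((hcu v hv).1).inv_left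
        have h3 : (a : G) * b * (u⁻¹ * v⁻¹) = b * a * (v⁻¹ * u⁻¹) := by
          calc (a : G) * b * (u⁻¹ * v⁻¹) = a * (b * u⁻¹) * v⁻¹ := by group
            _ = a * (u⁻¹ * b) * v⁻¹ := by rw [c1.eq]
            _ = a * u⁻¹ * (b * v⁻¹) := by group
            _ = b * v⁻¹ * (a * u⁻¹) := hxy
            _ = b * (v⁻¹ * a) * u⁻¹ := by group
            _ = b * (a * v⁻¹) * u⁻¹ := by rw [c2.eq]
            _ = b * a * (v⁻¹ * u⁻¹) := by group
        have cw : Commute (v⁻¹ * u⁻¹ * v * u) ((a : G)⁻¹ * (b : G)⁻¹) := by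
          have hw : v⁻¹ * u⁻¹ * v * u ∈ L' := mul_mem (mul_mem (mul_mem (inv_mem hv) (inv_mem hu)) hv) hu
          exact ((hcu _ hw).1.inv_right).mul_right ((hcu _ hw).2.inv_right)
        have h4 : (a : G) * b = b * a * (v⁻¹ * u⁻¹ * v * u) := by
          calc (a : G) * b = (a * b * (u⁻¹ * v⁻¹)) * (v * u) := by group
            _ = (b * a * (v⁻¹ * u⁻¹)) * (v * u) := by rw [h3]
            _ = _ := by group
        rw [h4, show (b : G) * a * (v⁻¹ * u⁻¹ * v * u) * (a : G)⁻¹ * (b : G)⁻¹ =
          b * a * ((v⁻¹ * u⁻¹ * v * u) * ((a : G)⁻¹ * (b : G)⁻¹)) by group, cw.eq]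
        group
      rw [Subgroup.coe_mul, Subgroup.coe_mul, Subgroup.coe_mul, Subgroup.coe_inv, Subgroup.coe_inv, e1]
      exact mul_mem (mul_mem (mul_mem (inv_mem hv) (inv_mem hu)) hv) hu
    have h2 : a * b * a⁻¹ * b⁻¹ ∈ π.ker := by
      rw [hker, mem_subgroupOf, ← hm]
      exact ⟨(a * b * a⁻¹ * b⁻¹).2, h1⟩
    rw [MonoidHom.mem_ker, map_mul, map_mul, map_mul, map_inv, map_inv, mul_inv_eq_one,
      mul_inv_eq_iff_eq_mul] at h2
    exact h2
  have hsup : A.map π ⊔ B.map π = ⊤ := by
    rw [← Subgroup.map_sup, eq_top_iff]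
    rintro p -
    obtain ⟨l, rfl⟩ := hπs p
    have hl : (l : G) ∈ X ⊔ Y := hgen.symm ▸ mem_sup_left l.2
    have hn : X ≤ normalizer (Y : Set G) := fun x hx => mem_normalizer_iff.2 fun y =>
      ⟨fun hy => by rw [hXY x hx y hy, mul_inv_cancel_right]; exact hy, fun hy => by
        have h := hXY x hx _ hy
        have : y = x * y * x⁻¹ := by
          calc y = x⁻¹ * (x * y * x⁻¹ * x) := by group
            _ = x⁻¹ * (x * (x * y * x⁻¹)) := by rw [h]
            _ = x * y * x⁻¹ := by group
        rwa [this]⟩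
    have := SetLike.mem_coe.2 hl
    rw [coe_mul_of_left_le_normalizer_right _ _ hn] at this
    obtain ⟨x, hx, y, hy, hxy⟩ := this
    obtain ⟨a, ha, u, hu, hau⟩ := hdec x (hXM hx)
    obtain ⟨b, hb, v, hv, hbv⟩ := hdec y (hYM hy)
    have haA : (⟨a, ha⟩ : L) ∈ A := mem_subgroupOf.2 (by
      show a ∈ X ⊔ L'
      rw [show a = x * u⁻¹ by rw [← hau]; group]
      exact mul_mem (mem_sup_left hx) (mem_sup_right (inv_mem hu)))
    have hbB : (⟨b, hb⟩ : L) ∈ B := mem_subgroupOf.2 (by
      show b ∈ Y ⊔ L'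
      rw [show b = y * v⁻¹ by rw [← hbv]; group]
      exact mul_mem (mem_sup_left hy) (mem_sup_right (inv_mem hv)))
    refine ⟨⟨a, ha⟩ * ⟨b, hb⟩, mul_mem (mem_sup_left haA) (mem_sup_right hbB), ?_⟩
    rw [← mul_inv_eq_one, ← map_inv, ← map_mul, ← MonoidHom.mem_ker, hker, mem_subgroupOf, ← hm]
    refine ⟨(_ : L).2, ?_⟩
    have hlv : (l : G) = a * b * (u * v) := by
      calc (l : G) = x * y := hxy.symm
        _ = a * u * (b * v) := by rw [hau, hbv]
        _ = a * (u * b) * v := by group
        _ = a * (b * u) * v := by rw [(hc b hb u hu).symm]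
        _ = a * b * (u * v) := by group
    have hq : a * b * (l : G)⁻¹ = a * b * (u * v)⁻¹ * (a * b)⁻¹ := by rw [hlv]; group
    simp only [Subgroup.coe_mul, Subgroup.coe_inv]
    rw [hq, show a * b * (u * v)⁻¹ * (a * b)⁻¹ = (u * v)⁻¹ by
      have := (hc (a * b) (mul_mem ha hb) _ (inv_mem (mul_mem hu hv)))
      rw [this]; group]
    exact L'.inv_mem (L'.mul_mem hu hv)
  have hcm : ∀ p ∈ A.map π, ∀ q ∈ B.map π, p * q = q * p := by
    rintro _ ⟨a, ha, rfl⟩ _ ⟨b, hb, rfl⟩
    exact hcAB a ha b hb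
  have final : ∀ Z : Subgroup G, Z ≤ L ⊔ L' → ((Z ⊔ L').subgroupOf L).map π = ⊥ → Z ≤ L' := by
    intro Z hZ hbot x hx
    obtain ⟨a, ha, u, hu, hau⟩ := hdec x (hZ hx)
    have : (⟨a, ha⟩ : L) ∈ π.ker := by
      refine (Subgroup.map_eq_bot_iff _).1 hbot (mem_subgroupOf.2 ?_)
      show a ∈ Z ⊔ L'
      rw [show a = x * u⁻¹ by rw [← hau]; group]
      exact mul_mem (mem_sup_left hx) (mem_sup_right (inv_mem hu))
    rw [hker, mem_subgroupOf, ← hm] at this
    exact hau ▸ mul_mem this.2 hu
  rcases eq_bot_or_eq_bot_of_commute hF hcm hsup with h | h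
  · exact Or.inl (final X hXM h)
  · exact Or.inr (final Y hYM h)

theorem card_sl2_injective {F' : Type*} [Field F'] [Fintype F']
    (h : Nat.card SL₂ = Nat.card (Matrix.SpecialLinearGroup (Fin 2) F')) :
    Fintype.card F = Fintype.card F' := by
  rw [CfsgLib.Classical.card_sl2, CfsgLib.Classical.card_sl2] at h
  have mono : ∀ a b : ℕ, a < b → 1 ≤ a → a * ((a - 1) * (a + 1)) < b * ((b - 1) * (b + 1)) :=
    fun a b hab ha => Nat.mul_lt_mul_of_lt_of_le hab
      (Nat.mul_le_mul (by omega) (by omega)) (Nat.mul_pos (by omega) (by omega))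
  rcases lt_trichotomy (Fintype.card F) (Fintype.card F') with h' | h' | h'
  · exact absurd h (mono _ _ h' Fintype.card_pos).ne
  · exact h'
  · exact absurd h (mono _ _ h' Fintype.card_pos).ne'

end CfsgLib.CentralPair
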