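import Mathlib
import Cfsg.Agent.Lib.GLClass.Orders

/-!
# Cyclic Sylow subgroups from elements of large order, and from small linear representations
-/

set_option autoImplicit false

namespace CfsgLib.Lie.SylowCyclic

variable {G : Type*} [Group G] [Finite G] {p : ℕ} [Fact p.Prime]

/-- an element whose order is the full `p`-part of the group order -/
theorem isCyclic_sylow {g : G} (hg : orderOf g = p ^ (Nat.card G).factorization p) (P : Sylow p G) :
    IsCyclic (P : Subgroup G) := by
  let S := Sylow.ofCard (Subgroup.zpowers g) (by rw [Nat.card_zpowers, hg])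
  haveI : IsCyclic (S : Subgroup G) := inferInstanceAs (IsCyclic (Subgroup.zpowers g))
  exact isCyclic_of_surjective (Sylow.equiv S P).toMonoidHom (Sylow.equiv S P).surjective

/-- a divisibility form -/
theorem isCyclic_sylow_of_dvd {g : G} (hg : p ^ (Nat.card G).factorization p ∣ orderOf g) (P : Sylow p G) :
    IsCyclic (P : Subgroup G) :=
  isCyclic_sylow (g := g ^ (orderOf g / p ^ (Nat.card G).factorization p))
    (orderOf_pow_orderOf_div (orderOf_pos g).ne' hg) P

/-- a `p`-group in a group with cyclic Sylow `p`-subgroups -/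
theorem isCyclic_of_isPGroup {g : G} (hg : orderOf g = p ^ (Nat.card G).factorization p) {Q : Subgroup G}
    (hQ : IsPGroup p Q) : IsCyclic Q := by
  obtain ⟨S, hS⟩ := hQ.exists_le_sylow
  haveI := isCyclic_sylow hg S
  exact isCyclic_of_injective (Subgroup.inclusion hS) (Subgroup.inclusion_injective hS)

variable {F : Type*} [Field F] [Fintype F]

theorem factorization_mul_pow_sub {q a b : ℕ} (hq : ¬ p ∣ q) (hab : a < b) (hq1 : 1 < q) :
    (q ^ b - q ^ a).factorization p = (q ^ (b - a) - 1).factorization p := by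
  obtain ⟨c, rfl⟩ := Nat.exists_eq_add_of_le hab.le
  rw [show q ^ (a + c) - q ^ a = q ^ a * (q ^ c - 1) by rw [Nat.mul_sub, mul_one, pow_add], Nat.add_sub_cancel_left]
  have h0 : q ^ c - 1 ≠ 0 := by
    have : 1 < q ^ c := Nat.one_lt_pow (by omega) hq1
    omega
  rw [Nat.factorization_mul (pow_ne_zero _ (by omega)) h0, Finsupp.add_apply, Nat.factorization_pow,
    Finsupp.smul_apply, Nat.factorization_eq_zero_of_not_dvd hq, smul_zero, zero_add]

/-- `p` divides `q^i - 1` for one `i ≤ n` only -/
theorem exists_orderOf_GL {n d : ℕ} (hd : 1 ≤ d) (hdn : d ≤ n) (hp : ¬ p ∣ Fintype.card F)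
    (honly : ∀ i, 1 ≤ i → i ≤ n → i ≠ d → ¬ p ∣ Fintype.card F ^ i - 1) :
    ∃ g : GL (Fin n) F, orderOf g = p ^ (Nat.card (GL (Fin n) F)).factorization p := by
  classical
  set q := Fintype.card F with hqdef
  have hq1 : 1 < q := Fintype.one_lt_card
  have hval : (Nat.card (GL (Fin n) F)).factorization p = (q ^ d - 1).factorization p := by
    rw [Matrix.card_GL_field, ← hqdef, Nat.factorization_prod_apply]
    · rw [Finset.sum_eq_single (⟨n - d, by omega⟩ : Fin n)]
      · rw [factorization_mul_pow_sub hp (by show n - d < n; omega) hq1]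
        congr 2
        show q ^ (n - (n - d)) - 1 = _
        rw [Nat.sub_sub_self hdn]
      · intro i _ hi
        rw [factorization_mul_pow_sub hp i.2 hq1]
        exact Nat.factorization_eq_zero_of_not_dvd (honly _ (by omega) (by omega) fun h => hi (Fin.ext (by
          show (i : ℕ) = n - d; omega)))
      · simp
    · intro i _
      have : q ^ (i : ℕ) < q ^ n := Nat.pow_lt_pow_right hq1 i.2
      omega
  rw [hval]
  exact CfsgLib.GLClass.exists_orderOf_eq hd hdn (Nat.ordProj_dvd _ _)

/-- a `p`-group with a faithful representation of small degree -/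
theorem isCyclic_of_rep {ι : Type*} [Fintype ι] [DecidableEq ι] {n d : ℕ} (hι : Fintype.card ι = n) (hd : 1 ≤ d)
    (hdn : d ≤ n) (hp : ¬ p ∣ Fintype.card F)
    (honly : ∀ i, 1 ≤ i → i ≤ n → i ≠ d → ¬ p ∣ Fintype.card F ^ i - 1)
    {H : Type*} [Group H] (hH : IsPGroup p H) (φ : H →* GL ι F) (hφ : Function.Injective φ) : IsCyclic H := by
  classical
  let e : GL ι F ≃* GL (Fin n) F :=
    Units.mapEquiv (Matrix.reindexAlgEquiv F F (Fintype.equivFinOfCardEq hι)).toMulEquiv
  let ψ : H →* GL (Fin n) F := e.toMonoidHom.comp φ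
  have hψ : Function.Injective ψ := e.injective.comp hφ
  haveI : Finite (GL (Fin n) F) := Finite.of_injective (fun X => (X.1 : Matrix _ _ F)) Units.val_injective
  obtain ⟨g, hg⟩ := exists_orderOf_GL (p := p) hd hdn hp honly
  haveI := isCyclic_of_isPGroup (Q := ψ.range) hg
    (hH.of_surjective ψ.rangeRestrict ψ.rangeRestrict_surjective)
  exact isCyclic_of_surjective (MonoidHom.ofInjective hψ).symm.toMonoidHom (MonoidHom.ofInjective hψ).symm.surjective

end CfsgLib.Lie.SylowCyclic
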