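import Mathlib

/-!
# A group with generating involutions satisfying the exchange condition is a Coxeter group

Matsumoto's theorem is proved for such a system and gives the universal property.
-/

set_option autoImplicit false

namespace CfsgLib.Lie.Exchange

/-- the alternating word `a b a b …` of length `j` -/
def alt {α : Type*} (a b : α) : ℕ → List α
  | 0 => []
  | j + 1 => a :: alt b a j

@[simp] theorem alt_length {α : Type*} (a b : α) (j : ℕ) : (alt a b j).length = j := by
  induction j generalizing a b with
  | zero => rfl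
  | succ j ih => simp [alt, ih]

theorem alt_succ_last {α : Type*} (a b : α) (j : ℕ) :
    alt a b (j + 1) = alt a b j ++ [if Even j then a else b] := by
  induction j generalizing a b with
  | zero => rfl
  | succ j ih =>
    show a :: alt b a (j + 1) = (a :: alt b a j) ++ _
    rw [ih b a, List.cons_append]
    by_cases h : Even j <;> simp [h, Nat.even_add_one]

variable {Γ : Type*} [Group Γ]

/-- two involutions: comparison of the two alternating products of length `j` -/
theorem alt_quot {a b : Γ} (ha : a * a = 1) (hb : b * b = 1) (j : ℕ) :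
    (alt a b j).prod * ((alt b a j).prod)⁻¹ = (a * b) ^ j := by
  induction j generalizing a b with
  | zero => simp [alt]
  | succ j ih =>
    simp only [alt, List.prod_cons, mul_inv_rev]
    have h1 := ih hb ha
    have hbi : b⁻¹ = b := inv_eq_of_mul_eq_one_right hb
    calc a * (alt b a j).prod * ((alt a b j).prod⁻¹ * b⁻¹)
        = a * ((alt b a j).prod * (alt a b j).prod⁻¹) * b⁻¹ := by group
      _ = a * (b * a) ^ j * b := by rw [h1, hbi]
      _ = (a * b) ^ (j + 1) := by
        clear h1 ih hbi ha hb
        induction j with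
        | zero => simp
        | succ j ihj =>
          calc a * (b * a) ^ (j + 1) * b = (a * (b * a) ^ j * b) * (a * b) := by
                rw [pow_succ]; group
            _ = (a * b) ^ (j + 1 + 1) := by rw [ihj, ← pow_succ]

theorem braid_of_pow_eq_one {a b : Γ} (ha : a * a = 1) (hb : b * b = 1) {j : ℕ}
    (h : (a * b) ^ j = 1) : (alt a b j).prod = (alt b a j).prod := by
  have := alt_quot ha hb j
  rwa [h, mul_inv_eq_one] at this

theorem alt_map {α β : Type*} (g : α → β) (a b : α) (j : ℕ) :
    (alt a b j).map g = alt (g a) (g b) j := by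
  induction j generalizing a b with
  | zero => rfl
  | succ j ih => simp [alt, ih]

/-- generating involutions with the exchange condition -/
structure ExSystem (W : Type*) [Group W] (ι : Type*) where
  f : ι → W
  mul_self : ∀ i, f i * f i = 1
  inj : Function.Injective f
  ne_one : ∀ i, f i ≠ 1
  gen : ∀ w : W, ∃ ω : List ι, (ω.map f).prod = w
  exchange : ∀ (i : ι) (ω : List ι),
    (∀ ω' : List ι, (ω'.map f).prod = (ω.map f).prod → ω.length ≤ ω'.length) →
    (∃ ω' : List ι, (ω'.map f).prod = f i * (ω.map f).prod ∧ ω'.length ≤ ω.length) →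
    ∃ k < ω.length, f i * (ω.map f).prod = ((ω.eraseIdx k).map f).prod

variable {W : Type*} [Group W] {ι : Type*} (E : ExSystem W ι)

namespace ExSystem

/-- product of a word -/
def wp (ω : List ι) : W := (ω.map E.f).prod

/-- reduced word -/
def Red (ω : List ι) : Prop := ∀ ω', E.wp ω' = E.wp ω → ω.length ≤ ω'.length

@[simp] theorem wp_nil : E.wp [] = 1 := rfl

@[simp] theorem wp_cons (i : ι) (ω : List ι) : E.wp (i :: ω) = E.f i * E.wp ω := by simp [wp]

@[simp] theorem wp_append (a b : List ι) : E.wp (a ++ b) = E.wp a * E.wp b := by simp [wp]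

theorem f_mul_cancel (i : ι) (w : W) : E.f i * (E.f i * w) = w := by
  rw [← mul_assoc, E.mul_self, one_mul]

theorem exists_red (w : W) : ∃ ω, E.wp ω = w ∧ E.Red ω := by
  classical
  have h : ∃ n, ∃ ω, E.wp ω = w ∧ ω.length = n := by
    obtain ⟨ω, hω⟩ := E.gen w
    exact ⟨_, ω, hω, rfl⟩
  obtain ⟨ω, h1, h2⟩ := Nat.find_spec h
  refine ⟨ω, h1, fun ω' h' => ?_⟩
  rw [h2]
  exact Nat.find_le ⟨ω', h'.trans h1, rfl⟩

theorem red_tail {i : ι} {ω : List ι} (h : E.Red (i :: ω)) : E.Red ω := fun ω' h' => by
  have := h (i :: ω') (by simp [h'])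
  simpa using this

theorem erase_interior : ∀ (k j : ℕ) (a b : ι), 0 < k → k + 1 < j →
    ∃ ω', E.wp ω' = E.wp ((alt a b j).eraseIdx k) ∧ ω'.length + 3 ≤ j := by
  intro k
  induction k with
  | zero => intro j a b h; omega
  | succ k ih =>
    intro j a b _ hj
    match j, hj with
    | j + 1, hj =>
      simp only [alt, List.eraseIdx_cons_succ]
      by_cases hk : k = 0
      · subst hk
        match j, hj with
        | j + 2, _ =>
          refine ⟨alt b a j, ?_, by simp⟩
          simp [alt, f_mul_cancel]
      · obtain ⟨ω', h1, h2⟩ := ih j b a (by omega) (by omega)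
        exact ⟨a :: ω', by simp [h1], by simp; omega⟩

/-- one step: from `t s t …` of length `j` to `s t s …` of length `j + 1` -/
theorem step {w : W} {s t : ι} (hst : s ≠ t) {j : ℕ} (hj : 1 ≤ j)
    (hord : (E.f s * E.f t) ^ j ≠ 1) {a' r : List ι} (ha : E.Red (s :: a'))
    (hwa : E.wp (s :: a') = w) (hc : E.Red (alt t s j ++ r)) (hwc : E.wp (alt t s j ++ r) = w) :
    ∃ r', E.Red (alt s t (j + 1) ++ r') ∧ E.wp (alt s t (j + 1) ++ r') = w := by
  have hlen : (s :: a').length = (alt t s j ++ r).length :=
    le_antisymm (ha _ (hwc.trans hwa.symm)) (hc _ (hwa.trans hwc.symm))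
  obtain ⟨k, hk, he⟩ := E.exchange s (alt t s j ++ r) hc ⟨a', by
    show E.wp a' = E.f s * E.wp (alt t s j ++ r)
    rw [hwc, ← hwa, wp_cons, f_mul_cancel], by simp at hlen ⊢; omega⟩
  change E.f s * E.wp (alt t s j ++ r) = E.wp ((alt t s j ++ r).eraseIdx k) at he
  have hw : E.wp (s :: (alt t s j ++ r).eraseIdx k) = w := by
    rw [wp_cons, ← he, f_mul_cancel, hwc]
  by_cases hkj : j ≤ k
  · have e : (alt t s j ++ r).eraseIdx k = alt t s j ++ r.eraseIdx (k - j) := by
      rw [List.eraseIdx_append_of_length_le (by simpa using hkj)]; simp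
    refine ⟨r.eraseIdx (k - j), fun ω' h' => ?_, ?_⟩
    · rw [show alt s t (j + 1) ++ r.eraseIdx (k - j) = s :: (alt t s j ++ r).eraseIdx k by
        rw [e]; rfl] at h' ⊢
      have := hc ω' ((h'.trans hw).trans hwc.symm)
      simp only [List.length_cons, List.length_eraseIdx, hk, if_true]
      omega
    · rw [← hw, e]; rfl
  exfalso
  have hkj' : k < j := by omega
  rw [List.eraseIdx_append_of_lt_length (by simpa using hkj')] at he hw
  rw [wp_append, wp_append, ← mul_assoc] at he
  have he' : E.f s * E.wp (alt t s j) = E.wp ((alt t s j).eraseIdx k) := mul_right_cancel he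
  obtain ⟨i, rfl⟩ : ∃ i, j = i + 1 := ⟨j - 1, by omega⟩
  by_cases hk0 : k = 0
  · subst hk0
    simp only [alt, wp_cons, List.eraseIdx_cons_zero, ← mul_assoc] at he'
    have h1 : E.f s * E.f t = 1 := mul_right_cancel (he'.trans (one_mul _).symm)
    exact hst (E.inj ((mul_left_cancel ((E.mul_self s).trans h1.symm))))
  by_cases hki : k = i
  · subst hki
    apply hord
    rw [alt_succ_last, List.eraseIdx_append_of_length_le (by simp)] at he'
    simp at he'
    have e1 := alt_quot (E.mul_self s) (E.mul_self t) (k + 1)
    have e2 : alt (E.f t) (E.f s) (k + 1) = (alt t s (k + 1)).map E.f := (alt_map _ _ _ _).symm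
    have e3 : alt (E.f s) (E.f t) (k + 1) = (alt s t (k + 1)).map E.f := (alt_map _ _ _ _).symm
    rw [e2, e3] at e1
    change E.wp (alt s t (k + 1)) * (E.wp (alt t s (k + 1)))⁻¹ = _ at e1
    rw [← e1, mul_inv_eq_one]
    show E.wp (s :: alt t s k) = E.wp (alt t s (k + 1))
    rw [alt_succ_last, wp_append, wp_cons]
    simp only [wp_cons, wp_nil, mul_one]
    calc E.f s * E.wp (alt t s k) = E.f s * (E.wp (alt t s k) *
          E.f (if Even k then t else s)) * E.f (if Even k then t else s) := by
            rw [mul_assoc, mul_assoc, E.mul_self, mul_one]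
      _ = _ := by rw [he']
  obtain ⟨ω', h1, h2⟩ := E.erase_interior k (i + 1) t s (by omega) (by omega)
  have := ha (s :: (ω' ++ r)) (by
    rw [hwa, ← hw]; simp [h1])
  simp at this hlen
  omega

theorem matsumoto_aux {Γ : Type*} [Monoid Γ] (g : ι → Γ)
    (hg : ∀ i j, i ≠ j → orderOf (E.f i * E.f j) ≠ 0 →
      ((alt i j (orderOf (E.f i * E.f j))).map g).prod =
        ((alt j i (orderOf (E.f i * E.f j))).map g).prod) :
    ∀ k, ∀ a b : List ι, a.length = k → E.Red a → E.Red b → E.wp a = E.wp b →
      (a.map g).prod = (b.map g).prod := by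
  intro k
  induction k using Nat.strong_induction_on with
  | _ k ih =>
  intro a b hk ha hb hab
  have hlen : a.length = b.length := le_antisymm (ha _ hab.symm) (hb _ hab)
  match a, b, hlen with
  | [], [], _ => rfl
  | s :: a', t :: b', hlen =>
    have same : ∀ (x : ι) (p q : List ι), (x :: p).length = k → E.Red (x :: p) → E.Red (x :: q) →
        E.wp (x :: p) = E.wp (x :: q) → ((x :: p).map g).prod = ((x :: q).map g).prod := by
      intro x p q hxl hp hq hpq
      simp only [List.map_cons, List.prod_cons]
      rw [ih p.length (by simp at hxl; omega) p q rfl (E.red_tail hp) (E.red_tail hq)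
        (by simpa using hpq)]
    by_cases hst : s = t
    · subst hst
      exact same s a' b' hk ha hb hab
    · set m := orderOf (E.f s * E.f t) with hm
      have hm' : orderOf (E.f t * E.f s) = m := by
        rw [hm, ← orderOf_inv]
        congr 1
        rw [mul_inv_rev, inv_eq_of_mul_eq_one_right (E.mul_self s),
          inv_eq_of_mul_eq_one_right (E.mul_self t)]
      have hbk : (t :: b').length = k := hlen ▸ hk
      have claim : ∀ j, 1 ≤ j → (m = 0 ∨ j ≤ m) →
          (∃ r, E.Red (alt s t j ++ r) ∧ E.wp (alt s t j ++ r) = E.wp (s :: a')) ∧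
          (∃ r, E.Red (alt t s j ++ r) ∧ E.wp (alt t s j ++ r) = E.wp (s :: a')) := by
        intro j
        induction j with
        | zero => intro h; omega
        | succ j ihj =>
          intro _ hjm
          by_cases hj0 : j = 0
          · subst hj0
            exact ⟨⟨a', ha, rfl⟩, ⟨b', hb, hab.symm⟩⟩
          · obtain ⟨⟨r1, hr1, hw1⟩, ⟨r2, hr2, hw2⟩⟩ := ihj (by omega) (by omega)
            have hne : ∀ x y : ι, orderOf (E.f x * E.f y) = m → (E.f x * E.f y) ^ j ≠ 1 := by
              intro x y hxy h
              rcases hjm with hjm | hjm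
              · exact (orderOf_eq_zero_iff'.1 (hxy.trans hjm)) j (by omega) h
              · have := orderOf_le_of_pow_eq_one (by omega) h
                omega
            exact ⟨E.step hst (by omega) (hne s t rfl) ha rfl hr2 hw2,
              E.step (Ne.symm hst) (by omega) (hne t s hm') hb hab.symm hr1 hw1⟩
      have hm0 : m ≠ 0 := by
        intro h0
        obtain ⟨⟨r, hr, hw⟩, -⟩ := claim (k + 1) (by omega) (Or.inl h0)
        have := hr (s :: a') hw.symm
        simp at this hk
        omega
      obtain ⟨⟨r, hr, hw⟩, -⟩ := claim m (by omega) (Or.inr le_rfl)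
      have hrl : (alt s t m ++ r).length = k := by
        rw [← hk]
        exact le_antisymm (hr _ hw.symm) (ha _ hw)
      obtain ⟨i, hi⟩ : ∃ i, m = i + 1 := ⟨m - 1, by omega⟩
      have hbraidW : E.wp (alt s t m) = E.wp (alt t s m) := by
        show ((alt s t m).map E.f).prod = ((alt t s m).map E.f).prod
        rw [alt_map, alt_map]
        exact braid_of_pow_eq_one (E.mul_self s) (E.mul_self t) (pow_orderOf_eq_one _)
      have hw' : E.wp (alt t s m ++ r) = E.wp (s :: a') := by
        rw [← hw, wp_append, wp_append, hbraidW]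
      have hr' : E.Red (alt t s m ++ r) := fun ω' h' => by
        have := hr ω' ((h'.trans hw').trans hw.symm)
        simpa using this
      calc ((s :: a').map g).prod = ((alt s t m ++ r).map g).prod := by
            rw [hi] at hr hw hrl ⊢
            exact same s a' (alt t s i ++ r) hk ha hr hw.symm
        _ = ((alt t s m ++ r).map g).prod := by
            simp only [List.map_append, List.prod_append]
            rw [hg s t hst hm0]
        _ = ((t :: b').map g).prod := by
            rw [hi] at hr' hw' hrl ⊢
            exact same t (alt s t i ++ r) b' (by simpa [alt] using hrl) hr' hb (hw'.trans hab)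

/-- Matsumoto's theorem -/
theorem matsumoto {Γ : Type*} [Monoid Γ] (g : ι → Γ)
    (hg : ∀ i j, i ≠ j → orderOf (E.f i * E.f j) ≠ 0 →
      ((alt i j (orderOf (E.f i * E.f j))).map g).prod =
        ((alt j i (orderOf (E.f i * E.f j))).map g).prod)
    {a b : List ι} (ha : E.Red a) (hb : E.Red b) (hab : E.wp a = E.wp b) :
    (a.map g).prod = (b.map g).prod :=
  E.matsumoto_aux g hg a.length a b rfl ha hb hab

/-- the Coxeter matrix of the system -/
noncomputable def matrix : CoxeterMatrix ι where
  M i j := orderOf (E.f i * E.f j)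
  isSymm := by
    ext i j
    show orderOf (E.f j * E.f i) = orderOf (E.f i * E.f j)
    rw [← orderOf_inv]
    congr 1
    rw [mul_inv_rev, inv_eq_of_mul_eq_one_right (E.mul_self i),
      inv_eq_of_mul_eq_one_right (E.mul_self j)]
  diagonal i := by simp [E.mul_self]
  off_diagonal i j hij h := hij (E.inj (by
    rw [orderOf_eq_one_iff] at h
    exact mul_left_cancel ((E.mul_self i).trans h.symm)))

theorem liftable_aux (i j : ι) : (E.f i * E.f j) ^ (E.matrix.M i j) = 1 := pow_orderOf_eq_one _

theorem rel_simple (i j : ι) :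
    (E.matrix.simple i * E.matrix.simple j) ^ (E.matrix.M i j) = 1 := by
  have h := CoxeterSystem.simple_mul_simple_pow E.matrix.toCoxeterSystem i j
  rwa [CoxeterMatrix.toCoxeterSystem_simple] at h

theorem simple_sq (i : ι) : E.matrix.simple i * E.matrix.simple i = 1 := by
  have h := CoxeterSystem.simple_mul_simple_self E.matrix.toCoxeterSystem i
  rwa [CoxeterMatrix.toCoxeterSystem_simple] at h

/-- the map from the abstract Coxeter group -/
noncomputable def toW : E.matrix.Group →* W :=
  E.matrix.toCoxeterSystem.lift ⟨E.f, E.liftable_aux⟩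

theorem toW_simple (i : ι) : E.toW (E.matrix.simple i) = E.f i := by
  rw [toW, ← CoxeterMatrix.toCoxeterSystem_simple]
  exact CoxeterSystem.lift_apply_simple _ E.liftable_aux i

/-- the section, through reduced words -/
noncomputable def section' (w : W) : E.matrix.Group :=
  ((Classical.choose (E.exists_red w)).map E.matrix.simple).prod

theorem section'_eq {ω : List ι} (h : E.Red ω) :
    E.section' (E.wp ω) = (ω.map E.matrix.simple).prod := by
  obtain ⟨h1, h2⟩ := Classical.choose_spec (E.exists_red (E.wp ω))
  refine E.matsumoto E.matrix.simple (fun i j _ _ => ?_) h2 h h1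
  rw [alt_map, alt_map]
  exact braid_of_pow_eq_one (E.simple_sq i) (E.simple_sq j) (E.rel_simple i j)

theorem section'_mul (i : ι) (w : W) :
    E.section' (E.f i * w) = E.matrix.simple i * E.section' w := by
  obtain ⟨ω, rfl, hω⟩ := E.exists_red w
  by_cases hr : E.Red (i :: ω)
  · rw [← wp_cons, E.section'_eq hr, E.section'_eq hω]; simp
  · obtain ⟨ω', h1, h2⟩ : ∃ ω', E.wp ω' = E.wp (i :: ω) ∧ ω'.length ≤ ω.length := by
      simp only [Red, not_forall, List.length_cons] at hr
      obtain ⟨ω', h1, h2⟩ := hr
      exact ⟨ω', h1, by omega⟩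
    obtain ⟨k, hk, he⟩ := E.exchange i ω hω ⟨ω', by simpa [wp] using h1, h2⟩
    change E.f i * E.wp ω = E.wp (ω.eraseIdx k) at he
    have hred : E.Red (i :: ω.eraseIdx k) := fun ω'' h'' => by
      rw [wp_cons, ← he, f_mul_cancel] at h''
      have := hω ω'' h''
      simp [List.length_eraseIdx, hk]
      omega
    have e1 : E.wp ω = E.wp (i :: ω.eraseIdx k) := by rw [wp_cons, ← he, f_mul_cancel]
    rw [he, E.section'_eq (E.red_tail hred)]
    conv_rhs => rw [e1, E.section'_eq hred]
    simp only [List.map_cons, List.prod_cons]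
    rw [← mul_assoc, E.simple_sq, one_mul]

theorem section'_toW (x : E.matrix.Group) : E.section' (E.toW x) = x := by
  induction x using CoxeterSystem.simple_induction_left E.matrix.toCoxeterSystem with
  | one =>
    rw [map_one, ← E.wp_nil, E.section'_eq fun ω' _ => Nat.zero_le _]
    rfl
  | mul_simple_left w i ih =>
    rw [CoxeterMatrix.toCoxeterSystem_simple, map_mul, toW_simple, section'_mul, ih]

/-- the Coxeter system -/
noncomputable def coxeterSystem : CoxeterSystem E.matrix W :=
  ⟨(MulEquiv.ofBijective E.toW ⟨Function.LeftInverse.injective E.section'_toW, fun w => by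
    obtain ⟨ω, hω⟩ := E.gen w
    refine ⟨(ω.map E.matrix.simple).prod, ?_⟩
    rw [map_list_prod, List.map_map, ← hω]
    congr 1
    exact List.map_congr_left fun i _ => E.toW_simple i⟩).symm⟩

theorem coxeterSystem_simple (i : ι) : E.coxeterSystem.simple i = E.f i :=
  E.toW_simple i

end ExSystem

end CfsgLib.Lie.Exchange
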