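import Cfsg.Agent.Lib.Lie.BN
import Mathlib.GroupTheory.Transfer

/-!
# Normal subgroups and invariant characters of the Borel subgroup of a (B, N)-pair
-/

set_option autoImplicit false

namespace CfsgLib.Lie.BN

variable {G : Type*} [Group G] (P : Cfsg.BNPair G)

/-- in an irreducible (B, N)-pair a normal subgroup with trivial core intersection supplements `B` -/
theorem sup_B_eq_top_of_normal (hirr : P.Irreducible) (hcore : P.B.normalCore = ⊥)
    (M : Subgroup G) (hM : M.Normal) (hMbot : M ≠ ⊥) : M ⊔ P.B = ⊤ := by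
  have hJ := eq_parabolic_of_le P (M ⊔ P.B) le_sup_right
  set J := P.S ∩ ((M ⊔ P.B : Subgroup G) : Set G) with hJdef
  have hJS : J ⊆ P.S := Set.inter_subset_left
  have hMJ : M ≤ P.parabolic J := le_sup_left.trans hJ.le
  have hJne : J.Nonempty := by
    rw [Set.nonempty_iff_ne_empty]
    intro he
    rw [he, Cfsg.BNPair.parabolic, Subgroup.closure_empty, sup_bot_eq] at hMJ
    exact hMbot (eq_bot_iff.2 (hcore ▸ Subgroup.normal_le_normalCore.2 hMJ))
  have hJall : J = P.S := by
    by_contra hne
    obtain ⟨s, hs, r, hr, hsr⟩ := hirr J hJS hJne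
      (Set.sdiff_nonempty.2 fun h => hne (hJS.antisymm h))
    apply hsr
    have hsS := hJS hs
    have hrJ : r ∉ J := hr.2
    have hrS := hr.1
    have hNs := P.subset hsS
    have hNr := P.subset hrS
    obtain ⟨m, hm, b, hb, hmb⟩ := Subgroup.mem_sup_of_normal_left.1 hs.2
    have hconj : r * (s * b⁻¹) * r⁻¹ ∈ P.parabolic J := by
      apply hMJ
      have : s * b⁻¹ = m := by rw [← hmb]; group
      rw [this]
      exact hM.conj_mem m hm r
    have lr := len_simple P hrS
    have ls := len_simple P hsS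
    have hsrN : s * r ∈ P.N := mul_mem hNs hNr
    have hlsr : len P (s * r) = 2 := by
      rcases len_mul_cases P hsS hNr with h | h
      · omega
      · exfalso
        have h0 : s * r ∈ P.B := (len_eq_zero P hsrN).1 (by omega)
        have h1 : s⁻¹ * r ∈ P.B := by
          have : (s * s)⁻¹ * (s * r) ∈ P.B := mul_mem (inv_mem (P.sq_mem s hsS)) h0
          simpa [mul_assoc] using this
        exact hrJ (P.inj s hsS r hrS h1 ▸ hs)
    rcases len_mul_cases P hrS hsrN with h | h
    · exfalso
      have h2 := left_mem_cell P hsS hNr (by omega) (inv_mem hb)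
      obtain ⟨b1, hb1, c1, hc1, he⟩ := (mem_cell P).1 h2
      have h3 := left_mem_cell P hrS hsrN (by omega) hb1
      have hBJ := B_le_parabolic P J
      have h4 : r * (s * r) ∈ P.parabolic J := by
        have h5 : r * b1 * (s * r) ∈ P.parabolic J := by
          have e : r * b1 * (s * r) = r * (s * b⁻¹) * r⁻¹ * ((r * r) * c1⁻¹) := by
            calc r * b1 * (s * r) = r * (b1 * (s * r) * c1) * c1⁻¹ := by group
              _ = r * (s * b⁻¹ * r) * c1⁻¹ := by rw [he]
              _ = _ := by group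
          rw [e]
          exact mul_mem hconj (hBJ (mul_mem (P.sq_mem r hrS) (inv_mem hc1)))
        obtain ⟨x, hx, y, hy, e⟩ := (mem_cell P).1 h3
        have e' : r * (s * r) = x⁻¹ * (r * b1 * (s * r)) * y⁻¹ := by rw [e]; group
        rw [e']
        exact mul_mem (mul_mem (inv_mem (hBJ hx)) h5) (inv_mem (hBJ hy))
      have h6 := letters_mem_of_reduced P [r, s, r]
        (by simp [IsWord, hrS, hsS]) (by simp; omega) (P.parabolic J) hBJ
        (fun c hc => by
          simp only [List.prod_cons, List.prod_nil, mul_one]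
          exact mul_mem (mul_mem h4 (hBJ hc)) (inv_mem h4)) r (by simp)
      exact hrJ (mem_of_parabolic P hJS hrS h6)
    · obtain ⟨i, hi, he⟩ := exchange P hrS (l := [s, r])
        (by simp [IsWord, hrS, hsS]) (by simp; omega) (by simp; omega)
      match i, hi with
      | 0, _ =>
        exfalso
        simp [Eqv] at he
        have : s * r ∈ P.B := by simpa [mul_assoc] using P.B.inv_mem he
        have := (len_eq_zero P hsrN).2 this
        omega
      | 1, _ =>
        simp [Eqv] at he
        have hxN : r⁻¹ * s⁻¹ * r⁻¹ * s ∈ P.N :=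
          mul_mem (mul_mem (mul_mem (inv_mem hNr) (inv_mem hNs)) (inv_mem hNr)) hNs
        have h1 : r * s * r * s⁻¹ ∈ P.B := by
          have := T_conj' P hNs (t := (r⁻¹ * s⁻¹ * r⁻¹ * s)⁻¹)
            (Subgroup.mem_inf.2 ⟨inv_mem (by simpa [mul_assoc] using he), inv_mem hxN⟩)
          simpa [mul_assoc] using this
        have hN1 : r * s * r * s⁻¹ ∈ P.N :=
          mul_mem (mul_mem (mul_mem hNr hNs) hNr) (inv_mem hNs)
        have h2 := T_conj P hNr ⟨h1, hN1⟩
        have h3 := mul_mem h2 (inv_mem (P.sq_mem r hrS))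
        simpa [mul_assoc] using h3
  rw [hJ, hJall]
  have h1 := eq_parabolic_of_le P ⊤ le_top
  simpa using h1.symm

/-- a homomorphism on `B` invariant under the distinguished generators is invariant under fusion -/
theorem hom_conj_invariant {A : Type*} [CommGroup A] (χ : ↥P.B →* A)
    (hS : ∀ s ∈ P.S, ∀ (y : G) (hy : y ∈ P.B) (h : s * y * s⁻¹ ∈ P.B),
      χ ⟨s * y * s⁻¹, h⟩ = χ ⟨y, hy⟩)
    (g y : G) (hy : y ∈ P.B) (h : g * y * g⁻¹ ∈ P.B) : χ ⟨g * y * g⁻¹, h⟩ = χ ⟨y, hy⟩ := by
  have hword : ∀ k : ℕ, ∀ l : List G, IsWord P l → l.length = k → len P l.prod = k →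
      ∀ (y : G) (hy : y ∈ P.B) (h : l.prod * y * l.prod⁻¹ ∈ P.B),
        χ ⟨l.prod * y * l.prod⁻¹, h⟩ = χ ⟨y, hy⟩ := by
    intro k
    induction k with
    | zero =>
      intro l _ hl _ y hy h
      rw [List.length_eq_zero_iff] at hl
      subst hl
      congr 1
      exact Subtype.ext (by simp)
    | succ k ih =>
      intro l hw hl hlen y hy h
      obtain ⟨s, l', rfl⟩ : ∃ s l', l = s :: l' := by
        cases l with
        | nil => simp at hl
        | cons s l' => exact ⟨s, l', rfl⟩
      have hs : s ∈ P.S := hw s (by simp)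
      have hw' : IsWord P l' := fun x hx => hw x (by simp [hx])
      have hn : l'.prod ∈ P.N := hw'.mem_N
      have hl' : l'.length = k := by simpa using hl
      simp only [List.prod_cons] at hlen h ⊢
      have hle : len P l'.prod = k := by
        have h1 := len_le P hw' (Eqv.refl P l'.prod)
        have h2 := len_mul_S_le P hn hs
        omega
      set n := l'.prod with hndef
      set z := n * y * n⁻¹ with hz
      have hsz : s * z * s⁻¹ ∈ P.B := by
        convert h using 1
        rw [hz]; group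
      have hzB : z ∈ P.B := by
        have hb := hsz
        have hz' : z = (s * s)⁻¹ * (s * (s * z * s⁻¹) * s) := by group
        rcases left_rule P hs (S_mem P hs) hb with h1 | h1
        · rw [hz']
          exact mul_mem (inv_mem (P.sq_mem s hs)) ((cell_of_mem_B P (P.sq_mem s hs)).1 h1)
        · exfalso
          obtain ⟨b1, hb1, c1, hc1, e⟩ := (mem_cell P).1 h1
          have h2 := left_mem_cell P hs hn (by omega) (b := c1) hc1
          have h3 : n * y ∈ cell P (s * n) := by
            have e1 : n * y = ((s * s)⁻¹ * b1) * (s * c1 * n) := by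
              calc n * y = z * n := by rw [hz]; group
                _ = (s * s)⁻¹ * (s * (s * z * s⁻¹) * s) * n := by rw [← hz']
                _ = _ := by rw [e]; group
            rw [e1]
            exact cell_mul_left P (mul_mem (inv_mem (P.sq_mem s hs)) hb1) h2
          have h4 : n * y ∈ cell P n := cell_mul_right P hy (mem_cell_self P n)
          have h5 := eqv_of_cell_eq P hn (P.N.mul_mem (S_mem P hs) hn)
            (cell_eq_of_mem_of_mem P h4 h3)
          have h6 := len_congr P hn (P.N.mul_mem (S_mem P hs) hn) h5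
          omega
      have e1 : (⟨s * n * y * (s * n)⁻¹, h⟩ : ↥P.B) = ⟨s * z * s⁻¹, hsz⟩ :=
        Subtype.ext (show s * n * y * (s * n)⁻¹ = s * (n * y * n⁻¹) * s⁻¹ by group)
      rw [e1, hS s hs z hzB hsz]
      exact ih l' hw' hl' hle y hy hzB
  obtain ⟨n, hn, hg⟩ := exists_cell P g
  obtain ⟨l, hw, hl, hnl⟩ := len_spec P hn
  rw [hnl.cell_eq] at hg
  obtain ⟨b, hb, c, hc, rfl⟩ := (mem_cell P).1 hg
  have hyc : c * y * c⁻¹ ∈ P.B := mul_mem (mul_mem hc hy) (inv_mem hc)
  have hw1 : l.prod * (c * y * c⁻¹) * l.prod⁻¹ ∈ P.B := by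
    have := mul_mem (mul_mem (inv_mem hb) h) hb
    convert this using 1
    group
  have hlen : len P l.prod = l.length := (len_congr P hw.mem_N hn hnl.symm).trans hl.symm
  have h1 := hword _ l hw rfl hlen _ hyc hw1
  have e1 : (⟨b * l.prod * c * y * (b * l.prod * c)⁻¹, h⟩ : ↥P.B) =
      ⟨b, hb⟩ * ⟨_, hw1⟩ * ⟨b, hb⟩⁻¹ := Subtype.ext (by simp; group)
  have e2 : (⟨c * y * c⁻¹, hyc⟩ : ↥P.B) = ⟨c, hc⟩ * ⟨y, hy⟩ * ⟨c, hc⟩⁻¹ := Subtype.ext (by simp)
  rw [e1, map_mul, map_mul, h1, e2, map_mul, map_mul, map_inv, map_inv]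
  rw [mul_inv_cancel_comm, mul_inv_cancel_comm]

end CfsgLib.Lie.BN

namespace CfsgLib.Lie

/-- the transfer of a fusion-invariant character restricts to its power by the index -/
theorem transfer_of_invariant {G A : Type*} [Group G] [Finite G] [CommGroup A] {H : Subgroup G}
    (χ : ↥H →* A)
    (hinv : ∀ (g y : G) (hy : y ∈ H) (h : g * y * g⁻¹ ∈ H), χ ⟨g * y * g⁻¹, h⟩ = χ ⟨y, hy⟩)
    (x : ↥H) : MonoidHom.transfer χ (x : G) = χ x ^ H.index := by
  classical
  haveI : Fintype (G ⧸ H) := Fintype.ofFinite _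
  rw [MonoidHom.transfer_eq_prod_quotient_orbitRel_zpowers_quot,
    Subgroup.index_eq_sum_minimalPeriod H (x : G), ← Finset.prod_pow_eq_pow_sum]
  refine Finset.prod_congr rfl fun q _ => ?_
  set k := Function.minimalPeriod ((x : G) • ·) q.out
  have hm := QuotientGroup.out_conj_pow_minimalPeriod_mem H (x : G) q.out
  have := hinv (q.out.out)⁻¹ ((x : G) ^ k) (pow_mem x.2 k) (by simpa using hm)
  rw [← map_pow]
  refine Eq.trans ?_ (this.trans (congrArg χ (Subtype.ext (by simp [k]))))
  exact congrArg χ (Subtype.ext (by simp [k]))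

end CfsgLib.Lie
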