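import Cfsg.Agent.Lib.Lie.SL2Neg
import Mathlib.FieldTheory.IsAlgClosed.AlgebraicClosure
import Mathlib.RingTheory.IntegralClosure.IsIntegralClosure.Basic
import Mathlib.FieldTheory.IntermediateField.Adjoin.Basic

/-!
# Minus the identity from two transvections whose product has finite order
-/

set_option autoImplicit false
set_option linter.unusedSectionVars false

namespace CfsgLib.Lie.SL2Neg

open Matrix
open CfsgLib.Lie.SL2Rel (Fam val_mul')

/-- the parameter of a transvection whose product with a transvection has finite order lies in a finite field -/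
theorem isIntegral_of_pow {F : Type*} [Field F] (p : ℕ) [Fact p.Prime] [CharP F p] [Algebra (ZMod p) F] {c : F}
    {N : ℕ} (hN : 0 < N)
    (h : (Fam.upper (1 : F) * Fam.lower c) ^ N = 1) : IsIntegral (ZMod p) c := by
  let A := AlgebraicClosure F
  let d : A := algebraMap F A c
  obtain ⟨μ, hμ⟩ := IsAlgClosed.exists_root
    (Polynomial.X ^ 2 - Polynomial.C (2 + d) * Polynomial.X + Polynomial.C 1 : Polynomial A)
    (by
      have : (Polynomial.X ^ 2 - Polynomial.C (2 + d) * Polynomial.X + Polynomial.C 1 : Polynomial A).degree = 2 := by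
        compute_degree!
      rw [this]; decide)
  simp only [Polynomial.IsRoot.def, Polynomial.eval_add, Polynomial.eval_sub, Polynomial.eval_pow,
    Polynomial.eval_mul, Polynomial.eval_C, Polynomial.eval_X] at hμ
  set M : Matrix (Fin 2) (Fin 2) F := !![1 + c, 1; c, 1]
  have hM : (Fam.upper (1 : F) * Fam.lower c).1 = M := by
    rw [val_mul']
    ext a b
    fin_cases a <;> fin_cases b <;> simp [M, Fam.upper, Fam.lower, Matrix.mul_apply, Fin.sum_univ_two]
  set v : Fin 2 → A := ![1, μ - 1 - d]
  have hv : (M.map (algebraMap F A)) *ᵥ v = μ • v := by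
    ext a
    fin_cases a <;> simp [M, v, d, Matrix.mulVec, dotProduct, Fin.sum_univ_two] <;> linear_combination -hμ
  have hn : ∀ n : ℕ, (M.map (algebraMap F A)) ^ n *ᵥ v = μ ^ n • v := by
    intro n
    induction n with
    | zero => simp
    | succ n ih => rw [pow_succ, ← Matrix.mulVec_mulVec, hv, Matrix.mulVec_smul, ih, smul_smul, pow_succ, mul_comm]
  have hMN : (M.map (algebraMap F A)) ^ N = 1 := by
    have h' : M ^ N = 1 := by
      subst M
      rw [← hM]
      have := congrArg (fun x : Matrix.SpecialLinearGroup (Fin 2) F => (x : Matrix (Fin 2) (Fin 2) F)) h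
      simpa using this
    rw [← RingHom.mapMatrix_apply, ← map_pow, h', map_one]
  have hμN : μ ^ N = 1 := by
    have := congrFun (hn N) 0
    rw [hMN, Matrix.one_mulVec] at this
    simpa [v] using this.symm
  have hμi : IsIntegral (ZMod p) μ := IsIntegral.of_pow hN (hμN ▸ isIntegral_one)
  have hμ0 : μ ≠ 0 := fun e => by simp [e, zero_pow hN.ne'] at hμN
  have hμ' : IsIntegral (ZMod p) μ⁻¹ := hμi.inv
  have hd : d = μ + μ⁻¹ - 2 := by
    have e : μ * μ⁻¹ = 1 := mul_inv_cancel₀ hμ0
    refine mul_left_cancel₀ hμ0 ?_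
    linear_combination -hμ - e
  refine (isIntegral_algebraMap_iff (algebraMap F A).injective).1 ?_
  show IsIntegral (ZMod p) d
  rw [hd]
  exact (hμi.add hμ').sub ((map_ofNat (algebraMap (ZMod p) A) 2) ▸ isIntegral_algebraMap)

/-- minus the identity, over an arbitrary field -/
theorem neg_one_mem_of_pow {F : Type*} [Field F] (p : ℕ) [Fact p.Prime] [CharP F p] (hp : p ≠ 2)
    {H : Subgroup (Matrix.SpecialLinearGroup (Fin 2) F)} {c : F} (hc : c ≠ 0)
    (hu : Fam.upper (1 : F) ∈ H) (hl : Fam.lower c ∈ H) {N : ℕ} (hN : 0 < N)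
    (h : (Fam.upper (1 : F) * Fam.lower c) ^ N = 1) : (-1 : Matrix.SpecialLinearGroup (Fin 2) F) ∈ H := by
  classical
  letI := ZMod.algebra F p
  have hi := isIntegral_of_pow p hN h
  set E := IntermediateField.adjoin (ZMod p) ({c} : Set F)
  haveI : FiniteDimensional (ZMod p) ↥E := IntermediateField.adjoin.finiteDimensional hi
  haveI : Finite ↥E := Module.finite_of_finite (ZMod p)
  haveI := Fintype.ofFinite ↥E
  haveI : CharP ↥E p := (RingHom.charP_iff (algebraMap ↥E F) (algebraMap ↥E F).injective p).2 inferInstance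
  set φ := Matrix.SpecialLinearGroup.map (n := Fin 2) (algebraMap ↥E F)
  let c₀ : ↥E := ⟨c, IntermediateField.subset_adjoin _ _ rfl⟩
  have hφ : ∀ g a b, (φ g).1 a b = algebraMap ↥E F (g.1 a b) := fun g a b => rfl
  have hmapu : φ (Fam.upper 1) = Fam.upper (1 : F) := by
    ext a b; rw [hφ]; fin_cases a <;> fin_cases b <;> simp [Fam.upper]
  have hmapl : φ (Fam.lower c₀) = Fam.lower c := by
    ext a b; rw [hφ]; fin_cases a <;> fin_cases b <;> simp [Fam.lower, c₀]
  have := neg_one_mem p hp (H := H.comap φ) (c := c₀) (fun e => hc (congrArg Subtype.val e))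
    (by rw [Subgroup.mem_comap, hmapu]; exact hu) (by rw [Subgroup.mem_comap, hmapl]; exact hl)
  rw [Subgroup.mem_comap] at this
  convert this using 1
  ext a b; rw [hφ]; fin_cases a <;> fin_cases b <;> simp

end CfsgLib.Lie.SL2Neg
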