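import Cfsg.Agent.Lib.Lie.SL2Rel
import Cfsg.Agent.Lib.Perm.Dickson.SubfieldMax

/-!
# Subgroups of `SL(2)` above a maximal subfield that have one more transvection
-/

set_option autoImplicit false
set_option linter.unusedSectionVars false

namespace CfsgLib.Lie.SL2Over

open Matrix CfsgLib.Perm.Dickson
open CfsgLib.Lie.SL2Rel (Fam val_mul')

variable {K : Type*} [Field K]

/-- the projection -/
noncomputable def proj : Matrix.SpecialLinearGroup (Fin 2) K →* G2 K :=
  ProjGenLinGroup.mk.comp Matrix.SpecialLinearGroup.toGL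

theorem proj_upper (a : K) : proj (Fam.upper a) = tr a := congrArg ProjGenLinGroup.mk (Units.ext rfl)

theorem proj_range : (proj (K := K)).range = psl K := rfl

theorem proj_eq_one {g : Matrix.SpecialLinearGroup (Fin 2) K} (h : proj g = 1) : g.1 = 1 ∨ g.1 = -1 := by
  obtain ⟨c, hc⟩ := ProjGenLinGroup.mk_eq_mk_iff.1 (h.trans (map_one ProjGenLinGroup.mk).symm)
  have h01 : g.1 0 1 = 0 := by
    have := congrArg (fun M : GL (Fin 2) K => M.1 0 1) hc
    simpa [SpecialLinearGroup.toGL] using this
  have h10 : g.1 1 0 = 0 := by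
    have := congrArg (fun M : GL (Fin 2) K => M.1 1 0) hc
    simpa [SpecialLinearGroup.toGL] using this
  have h00 := congrArg (fun M : GL (Fin 2) K => M.1 0 0) hc
  have h11 := congrArg (fun M : GL (Fin 2) K => M.1 1 1) hc
  simp [SpecialLinearGroup.toGL] at h00 h11
  have hd : g.1 0 0 * g.1 1 1 - g.1 0 1 * g.1 1 0 = 1 := by rw [← det_fin_two]; exact g.2
  rw [h01, zero_mul, sub_zero] at hd
  have he : g.1 0 0 = g.1 1 1 := by
    exact mul_right_cancel₀ c.ne_zero (h00.trans h11.symm)
  rw [he] at hd
  rcases mul_self_eq_one_iff.1 hd with e | e <;> [left; right] <;>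
    (ext i j; fin_cases i <;> fin_cases j <;> simp [h01, h10, he, e])

theorem tr_mem_pglSub {F1 : Subfield K} {t : K} (h : tr t ∈ pglSub F1) : t ∈ F1 := by
  obtain ⟨k, hk⟩ := h
  have h1 : mapG F1.subtype k • mapP F1.subtype (fp (0 : F1)) = fp t := by
    rw [hk, mapP_fp, tr_fp, map_zero, zero_add]
  rw [map_smul_pt] at h1
  obtain e | ⟨z, hz⟩ := point_cases (k • fp (0 : F1))
  · rw [e, mapP_ip] at h1
    exact absurd h1 (ip_ne_fp t)
  · rw [hz, mapP_fp] at h1
    rw [← fp_inj h1]
    exact z.2

variable [Finite K] (p : ℕ) [Fact p.Prime] [CharP K p]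
include p

/-- the image in the projective group is everything -/
theorem psl_le {F : Subfield K} (hmax : ∀ E : Subfield K, F ≤ E → E = F ∨ E = ⊤) {M : Subgroup (G2 K)}
    (hFM : pslSub F ≤ M) {t : K} (ht : t ∉ F) (htM : tr t ∈ M) : psl K ≤ M := by
  classical
  haveI := finite_G2 (F := K)
  have hfull : ∀ (σ : G2 K) (F2 : Subfield K), F2 = ⊤ → pslSub F2 ≤ conjG σ M → psl K ≤ M := by
    rintro σ F2 rfl h g hg
    have hsub : psl K ≤ pslSub (⊤ : Subfield K) := by
      rintro _ ⟨A, rfl⟩
      exact ⟨proj ⟨A.1.map fun x => (⟨x, trivial⟩ : (⊤ : Subfield K)), by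
        apply (⊤ : Subfield K).subtype.injective
        rw [RingHom.map_det, map_one]
        exact A.2⟩, ⟨_, rfl⟩, congrArg ProjGenLinGroup.mk (Units.ext rfl)⟩
    have := h (hsub ((psl_normal K).conj_mem g hg σ))
    rw [mem_conjG] at this
    simpa [mul_assoc] using this
  rcases Nat.lt_or_ge (Nat.card F) 3 with h2 | h3
  · -- the prime field with two elements
    have hF2 : Nat.card F = 2 := by have := two_le_card_subfield F; omega
    have h1 : tr (1 : K) ∈ M := hFM (tr_mem_pslSub F.one_mem)
    have hne : ∀ {a : K}, a ≠ 0 → tr a ≠ 1 := fun ha e => ha (tr_injective (e.trans tr_zero.symm))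
    have hnot : ∀ {a b : P2 (Kc K)}, GoodPair a b → ∀ {x : K}, x ≠ 0 → tr x ∉ pairFix a b := by
      intro a b hg x hx hm
      apply not_p_dvd_torus p hg
      have ho : orderOf (tr x) = p := orderOf_eq_prime
        (by rw [tr_pow, CharP.cast_eq_zero K p, zero_mul, tr_zero]) (hne hx)
      have := orderOf_dvd_natCard (⟨tr x, hm⟩ : pairFix a b)
      rwa [Subgroup.orderOf_mk, ho] at this
    have hp : p = 2 := by
      have h11 : (1 : F) + 1 = 0 := by
        haveI : Fintype F := Fintype.ofFinite _
        have := FiniteField.cast_card_eq_zero F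
        rw [← Nat.card_eq_fintype_card, hF2] at this
        rw [← this]; norm_num
      have h11' : ((2 : ℕ) : K) = 0 := by
        have := congrArg Subtype.val h11
        push_cast at this
        rw [← this]; norm_num
      exact (Nat.prime_dvd_prime_iff_eq Fact.out Nat.prime_two).1 ((CharP.cast_eq_zero_iff K p 2).1 h11')
    cases classify_finite p M with
    | borel x hx =>
      exfalso
      have e1 := single_tr one_ne_zero x (hx _ h1)
      have e2 := single_low x (hx _ (hFM (low_mem_pslSub F)))
      exact ip_ne_fp (0 : K) (e1.symm.trans e2)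
    | cyclic a b hg hle hne' => exact absurd (hle h1) (hnot hg one_ne_zero)
    | dihedral a b hg hle hn hC =>
      exfalso
      have ht0 : t ≠ 0 := fun e => ht (e ▸ F.zero_mem)
      have := mul_mem_of_swap (hle h1) (hnot hg one_ne_zero) (hle htM) (hnot hg ht0)
      rw [tr_mul] at this
      refine hnot hg (fun e => ht ?_) this
      rw [show t = -1 from eq_neg_of_add_eq_zero_right e]
      exact neg_mem F.one_mem
    | a4 hN h2' _ _ => exact absurd hp h2'
    | s4 hN h2' _ _ => exact absurd hp h2'
    | a5 hN h2' _ _ => exact absurd hp h2'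
    | subfield σ F2 hc h =>
      have hge : pslSub F2 ≤ conjG σ M := by
        rcases h with h | ⟨-, h⟩ <;> rw [h]
        exact pslSub_le_pglSub F2
      refine hfull σ F2 ((hmax F2 fun x hx => ?_).resolve_left fun e => by rw [e] at hc; omega) hge
      have hx01 : (⟨x, hx⟩ : F) = 0 ∨ (⟨x, hx⟩ : F) = 1 := by
        obtain ⟨a, b, hab, hu⟩ := Nat.card_eq_two_iff.1 hF2
        have hm : ∀ y : F, y = a ∨ y = b := fun y => by
          have : y ∈ ({a, b} : Set F) := hu ▸ Set.mem_univ y
          simpa using this
        rcases hm ⟨x, hx⟩ with e | e <;> rcases hm 0 with e0 | e0 <;> rcases hm 1 with e1 | e1 <;>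
          first
            | exact Or.inl (e.trans e0.symm)
            | exact Or.inr (e.trans e1.symm)
            | exact absurd (e0.trans e1.symm) zero_ne_one
      rcases hx01 with e | e <;> rw [show x = _ from congrArg Subtype.val e]
      · exact F2.zero_mem
      · exact F2.one_mem
  · rcases overgroup_cases p h3 hFM with ⟨hp2, hN⟩ | ⟨σ, F2, hFF, hle, hps, -⟩
    · exfalso
      -- a subgroup of order divisible by p²
      let T : AddSubgroup K :=
        { carrier := {a | tr a ∈ M}
          zero_mem' := by show tr 0 ∈ M; rw [tr_zero]; exact one_mem _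
          add_mem' := fun {a b} ha hb => by show tr (a + b) ∈ M; rw [← tr_mul]; exact mul_mem ha hb
          neg_mem' := fun {a} ha => by
            show tr (-a) ∈ M
            rw [show tr (-a) = (tr a)⁻¹ from eq_inv_of_mul_eq_one_left (by rw [tr_mul, neg_add_cancel, tr_zero])]
            exact inv_mem ha }
      let φ : Multiplicative T →* ↥M := MonoidHom.mk' (fun a => ⟨tr (Multiplicative.toAdd a : T).1, (Multiplicative.toAdd a).2⟩)
        fun a b => Subtype.ext (tr_mul _ _).symm
      have hTM : Nat.card T ∣ Nat.card M := by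
        refine (?_ : Nat.card T = Nat.card φ.range) ▸ Subgroup.card_subgroup_dvd_card φ.range
        exact Nat.card_congr (Multiplicative.ofAdd.trans (MonoidHom.ofInjective (f := φ) fun a b e =>
          Multiplicative.toAdd.injective (Subtype.ext (tr_injective (congrArg Subtype.val e)))).toEquiv)
      have hpg : IsPGroup p (Multiplicative T) := fun a => ⟨1, by
        refine Multiplicative.toAdd.injective (Subtype.ext ?_)
        simp [toAdd_pow, CharP.cast_eq_zero]⟩
      obtain ⟨n, hn⟩ := IsPGroup.iff_card.1 hpg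
      rw [Nat.card_congr (Multiplicative.toAdd (α := T))] at hn
      have hpge : p * p ≤ Nat.card T := by
        have hmem : ∀ ij : Fin p × Fin p, ((ij.1.val : K) + (ij.2.val : K) * t) ∈ T := fun ij => by
          refine add_mem ?_ ?_
          · exact hFM (tr_mem_pslSub (natCast_mem F _))
          · rw [← nsmul_eq_mul]; exact nsmul_mem (show t ∈ T from htM) _
        refine le_trans (le_of_eq ?_) (Nat.card_le_card_of_injective (fun ij : Fin p × Fin p => (⟨_, hmem ij⟩ : T)) ?_)
        · simp
        · rintro ⟨i, j⟩ ⟨i', j'⟩ e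
          have e' : (i.val : K) + (j.val : K) * t = (i'.val : K) + (j'.val : K) * t := congrArg Subtype.val e
          have hj : (j.val : K) = (j'.val : K) := by
            by_contra hne
            refine ht ?_
            have hne' : (j.val : K) - (j'.val : K) ≠ 0 := sub_ne_zero.2 hne
            rw [show t = ((i'.val : K) - (i.val : K)) / ((j.val : K) - (j'.val : K)) from
              eq_div_of_mul_eq hne' (by linear_combination e')]
            exact div_mem (sub_mem (natCast_mem F _) (natCast_mem F _)) (sub_mem (natCast_mem F _) (natCast_mem F _))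
          have hi : (i.val : K) = (i'.val : K) := by linear_combination e' - t * hj
          refine Prod.ext (Fin.ext ?_) (Fin.ext ?_)
          · exact Nat.ModEq.eq_of_lt_of_lt ((CharP.natCast_eq_natCast K p).1 hi) i.2 i'.2
          · exact Nat.ModEq.eq_of_lt_of_lt ((CharP.natCast_eq_natCast K p).1 hj) j.2 j'.2
      have hn2 : 2 ≤ n := by
        by_contra hlt
        have h4 : p ^ n ≤ p ^ 1 := Nat.pow_le_pow_right (Fact.out : p.Prime).pos (by omega)
        rw [hn] at hpge
        have := (Fact.out : p.Prime).two_le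
        nlinarith
      have hp2M : p ^ 2 ∣ Nat.card M := (pow_dvd_pow p hn2).trans (hn ▸ hTM)
      have hple : p ≤ 7 := by
        have := Nat.le_of_dvd Nat.card_pos hp2M
        simp only [Finset.mem_insert, Finset.mem_singleton] at hN
        by_contra hgt
        have h64 : 8 * 8 ≤ p ^ 2 := by rw [pow_two]; exact Nat.mul_le_mul (by omega) (by omega)
        omega
      have hpp : p.Prime := Fact.out
      have hp3 : 3 ≤ p := by have := hpp.two_le; omega
      simp only [Finset.mem_insert, Finset.mem_singleton] at hN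
      rcases hN with e | e | e <;> rw [e] at hp2M <;> interval_cases p <;>
        first
          | exact hp2 rfl
          | exact absurd hp2M (by norm_num)
          | exact absurd hpp (by norm_num)
    · exact hfull σ F2 ((hmax F2 hFF).resolve_left fun e => ht (tr_mem_pglSub (e ▸ hle htM))) hps

/-- every transvection -/
theorem upper_mem {F : Subfield K} (hmax : ∀ E : Subfield K, F ≤ E → E = F ∨ E = ⊤)
    {H : Subgroup (Matrix.SpecialLinearGroup (Fin 2) K)}
    (hu : ∀ a ∈ F, Fam.upper a ∈ H) (hl : ∀ a ∈ F, Fam.lower a ∈ H)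
    {t : K} (ht : t ∉ F) (htH : Fam.upper t ∈ H) (v : K) : Fam.upper v ∈ H := by
  let ι : Matrix.SpecialLinearGroup (Fin 2) F →* Matrix.SpecialLinearGroup (Fin 2) K :=
    Matrix.SpecialLinearGroup.map F.subtype
  have hval : ∀ A, (ι A).1 = A.1.map F.subtype := fun A => rfl
  have hι : ∀ A, ι A ∈ H := by
    intro A
    refine SL2Rel.Fam.mem_gens (P := fun A => ι A ∈ H) (fun a b ha hb => by rw [map_mul]; exact mul_mem ha hb)
      (fun a => ?_) ?_ A
    · rw [show ι (Fam.upper a) = Fam.upper (a : K) from Subtype.ext (by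
        rw [hval]
        ext i j; fin_cases i <;> fin_cases j <;> simp [Fam.upper])]
      exact hu _ a.2
    · have e : ι Fam.wel = Fam.lower 1 * Fam.upper (-1) * Fam.lower (1 : K) := by
        refine Subtype.ext ?_
        simp only [val_mul', hval]
        ext i j
        fin_cases i <;> fin_cases j <;> simp [Fam.wel, Fam.upper, Fam.lower, Matrix.mul_apply, Fin.sum_univ_two]
      rw [e]
      exact mul_mem (mul_mem (hl 1 F.one_mem) (hu _ (neg_mem F.one_mem))) (hl 1 F.one_mem)
  have hFM : pslSub F ≤ H.map proj := by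
    rintro _ ⟨_, ⟨A, rfl⟩, rfl⟩
    exact ⟨ι A, hι A, congrArg ProjGenLinGroup.mk (Units.ext rfl)⟩
  have hM := psl_le p hmax hFM ht ⟨_, htH, proj_upper t⟩
  have hhalf : ∀ w : K, ∃ h ∈ H, h.1 = (Fam.upper w).1 ∨ h.1 = -(Fam.upper w).1 := by
    intro w
    obtain ⟨h, hh, e⟩ := hM ⟨Fam.upper w, rfl⟩
    refine ⟨h, hh, ?_⟩
    have e1 : proj ((Fam.upper w)⁻¹ * h) = 1 := by
      rw [map_mul, map_inv, show proj h = proj (Fam.upper w) from e, inv_mul_cancel]
    have e2 : h.1 = (Fam.upper w).1 * ((Fam.upper w)⁻¹ * h).1 := by rw [← val_mul', mul_inv_cancel_left]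
    rcases proj_eq_one e1 with e3 | e3 <;> rw [e3] at e2
    · left; rw [e2, mul_one]
    · right; rw [e2, mul_neg, mul_one]
  by_cases h2 : (2 : K) = 0
  · obtain ⟨h, hh, e | e⟩ := hhalf v
    · rwa [← Subtype.ext e]
    · rwa [← Subtype.ext (e.trans (by
        ext i j
        rw [Matrix.neg_apply, neg_eq_iff_add_eq_zero, ← two_mul, h2, zero_mul] : -(Fam.upper v).1 = (Fam.upper v).1))]
  · obtain ⟨h, hh, e⟩ := hhalf (v / 2)
    have e2 : h * h = Fam.upper v := by
      refine Subtype.ext ?_
      rw [val_mul']
      rcases e with e | e <;> rw [e] <;>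
        (ext i j; fin_cases i <;> fin_cases j <;> simp [Fam.upper, Matrix.mul_apply, Fin.sum_univ_two] <;>
          (field_simp; try ring))
    exact e2 ▸ mul_mem hh hh

end CfsgLib.Lie.SL2Over
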