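import Mathlib

/-!
# Bounds for the orders of the groups of Lie type by the exact power of the characteristic
-/

set_option autoImplicit false

namespace CfsgLib.Lie.OrderBound

/-- a number whose `p`-part is large -/
def Big (p X : ℕ) : Prop :=
  X < p ^ (3 * X.factorization p) ∧ X ^ 3 < p ^ (8 * X.factorization p)

theorem factorization_eq {p f q N R d X : ℕ} (hp : p.Prime) (hq : q = p ^ f) (h : d * X = q ^ N * R)
    (hR : ¬ p ∣ R) (hd : ¬ p ∣ d) : X.factorization p = f * N := by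
  have hR0 : R ≠ 0 := fun e => hR (e ▸ dvd_zero p)
  have hd0 : d ≠ 0 := fun e => hd (e ▸ dvd_zero p)
  subst hq
  rw [← pow_mul] at h
  have hX : X ≠ 0 := by
    rintro rfl
    rw [mul_zero] at h
    rcases mul_eq_zero.1 h.symm with e | e
    · exact absurd e (pow_ne_zero _ hp.ne_zero)
    · exact hR0 e
  have := congrArg (fun n => n.factorization p) h
  simp only [Nat.factorization_mul hd0 hX, Nat.factorization_mul (pow_ne_zero (f * N) hp.ne_zero) hR0, Finsupp.coe_add,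
    Pi.add_apply, Nat.factorization_eq_zero_of_not_dvd hd, Nat.factorization_eq_zero_of_not_dvd hR,
    Nat.Prime.factorization_pow hp, Finsupp.single_eq_same, zero_add, add_zero] at this
  exact this

theorem le_of_mul_eq {p q N R d X : ℕ} (h : d * X = q ^ N * R) (hd : ¬ p ∣ d) : X ≤ q ^ N * R :=
  h ▸ Nat.le_mul_of_pos_left X (Nat.pos_of_ne_zero fun e => hd (e ▸ dvd_zero p))

theorem big_of {p f q N E R d X : ℕ} (hp : p.Prime) (hq : q = p ^ f) (h : d * X = q ^ N * R)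
    (hR : ¬ p ∣ R) (hd : ¬ p ∣ d) (hlt : R < q ^ E) (h1 : E ≤ 2 * N) (h2 : 3 * E ≤ 5 * N) : Big p X := by
  have hq0 : 0 < q := hq ▸ Nat.pow_pos hp.pos
  have hX : X < q ^ (N + E) :=
    lt_of_le_of_lt (le_of_mul_eq h hd) (pow_add q N E ▸ Nat.mul_lt_mul_of_pos_left hlt (Nat.pow_pos hq0))
  rw [Big, factorization_eq hp hq h hR hd, show 3 * (f * N) = f * (3 * N) by ring,
    show 8 * (f * N) = f * (8 * N) by ring, pow_mul p f, pow_mul p f, ← hq]
  refine ⟨lt_of_lt_of_le hX (Nat.pow_le_pow_right hq0 (by omega)), lt_of_lt_of_le (Nat.pow_lt_pow_left hX three_ne_zero) ?_⟩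
  rw [← pow_mul]
  exact Nat.pow_le_pow_right hq0 (by omega)

variable {p f q : ℕ}

theorem ndvd_sub_one (hp : p.Prime) (hf : f ≠ 0) (hq : q = p ^ f) {e : ℕ} (he : e ≠ 0) : ¬ p ∣ q ^ e - 1 := fun h => by
  have h1 : p ∣ q ^ e := (hq ▸ dvd_pow_self p hf).trans (dvd_pow_self q he)
  have h2 := Nat.dvd_sub h1 h
  rw [Nat.sub_sub_self (Nat.one_le_pow _ _ (hq ▸ Nat.pow_pos hp.pos))] at h2
  exact hp.not_dvd_one h2

theorem ndvd_add_one (hp : p.Prime) (hf : f ≠ 0) (hq : q = p ^ f) {e : ℕ} (he : e ≠ 0) : ¬ p ∣ q ^ e + 1 := fun h =>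
  hp.not_dvd_one ((Nat.dvd_add_right ((hq ▸ dvd_pow_self p hf).trans (dvd_pow_self q he))).1 h)

theorem ndvd_mul (hp : p.Prime) {a b : ℕ} (ha : ¬ p ∣ a) (hb : ¬ p ∣ b) : ¬ p ∣ a * b := fun h =>
  (hp.dvd_mul.1 h).elim ha hb

theorem ndvd_of_dvd {a d : ℕ} (h : d ∣ a) (ha : ¬ p ∣ a) : ¬ p ∣ d := fun hd => ha (hd.trans h)

theorem ndvd_prod (hp : p.Prime) {ι : Type*} (s : Finset ι) (g : ι → ℕ) (h : ∀ i ∈ s, ¬ p ∣ g i) :
    ¬ p ∣ ∏ i ∈ s, g i := fun hd => by
  obtain ⟨i, hi, hpi⟩ := (Prime.dvd_finsetProd_iff hp.prime g).1 hd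
  exact h i hi hpi

theorem sub_one_lt (hq : 2 ≤ q) (e : ℕ) : q ^ e - 1 < q ^ e :=
  Nat.sub_lt (Nat.pow_pos (by omega)) one_pos

theorem prod_sub_one_le (hq : 2 ≤ q) (g : ℕ → ℕ) (k : ℕ) :
    ∏ i ∈ Finset.range k, (q ^ g i - 1) ≤ q ^ (∑ i ∈ Finset.range k, g i) := by
  rw [← Finset.prod_pow_eq_pow_sum]
  exact Finset.prod_le_prod' fun i _ => Nat.sub_le _ _

theorem sum_even (k : ℕ) : ∑ i ∈ Finset.range k, 2 * (i + 1) = k * (k + 1) := by
  induction k with
  | zero => rfl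
  | succ k ih => rw [Finset.sum_range_succ, ih]; ring

theorem sum_from_two (k : ℕ) : 2 * ∑ i ∈ Finset.range k, (i + 2) = k * (k + 3) := by
  induction k with
  | zero => rfl
  | succ k ih => rw [Finset.sum_range_succ, mul_add, ih]; ring

/-- a plus factor followed by a smaller minus factor -/
theorem pair_lt (hq : 2 ≤ q) {a b : ℕ} (h : a < b) : (q ^ a - 1) * (q ^ b + 1) < q ^ (a + b) := by
  have h1 : q ^ a < q ^ b := Nat.pow_lt_pow_right (by omega) h
  have h0 : 1 ≤ q ^ a := Nat.one_le_pow _ _ (by omega)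
  rw [pow_add]
  obtain ⟨x, hx⟩ : ∃ x, q ^ a = x + 1 := ⟨q ^ a - 1, by omega⟩
  rw [hx] at h1 ⊢
  rw [Nat.add_sub_cancel, mul_add, add_mul, mul_one, one_mul]
  omega

theorem pair_lt' (hq : 2 ≤ q) {a b : ℕ} (h : b < a) : (q ^ a + 1) * (q ^ b - 1) < q ^ (a + b) := by
  rw [mul_comm, add_comm a b]; exact pair_lt hq h

theorem unitary_lt (hq : 2 ≤ q) :
    ∀ k, 1 ≤ k → ∏ i ∈ Finset.range k, (if Even i then q ^ (i + 2) - 1 else q ^ (i + 2) + 1) <
      q ^ (∑ i ∈ Finset.range k, (i + 2)) := by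
  have key : ∀ j, ∏ i ∈ Finset.range (2 * j), (if Even i then q ^ (i + 2) - 1 else q ^ (i + 2) + 1) ≤
      q ^ (∑ i ∈ Finset.range (2 * j), (i + 2)) := by
    intro j
    induction j with
    | zero => simp
    | succ j ih =>
      rw [show 2 * (j + 1) = 2 * j + 1 + 1 by ring, Finset.prod_range_succ, Finset.prod_range_succ,
        Finset.sum_range_succ, Finset.sum_range_succ, if_pos (even_two_mul j), if_neg (by simp [parity_simps]),
        mul_assoc]
      exact le_of_le_of_eq (Nat.mul_le_mul ih (pair_lt hq (show 2 * j + 2 < 2 * j + 1 + 2 by omega)).le)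
        (by rw [← pow_add]; congr 1; omega)
  intro k hk
  obtain ⟨j, rfl | rfl⟩ := Nat.even_or_odd' k
  · obtain ⟨i, rfl⟩ : ∃ i, j = i + 1 := ⟨j - 1, by omega⟩
    rw [show 2 * (i + 1) = 2 * i + 1 + 1 by ring, Finset.prod_range_succ, Finset.prod_range_succ,
      Finset.sum_range_succ, Finset.sum_range_succ, if_pos (even_two_mul i), if_neg (by simp [parity_simps]),
      mul_assoc]
    exact lt_of_lt_of_eq (Nat.mul_lt_mul_of_le_of_lt (key i) (pair_lt hq (show 2 * i + 2 < 2 * i + 1 + 2 by omega))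
      (Nat.pow_pos (by omega))) (by rw [← pow_add]; congr 1; omega)
  · rw [Finset.prod_range_succ, Finset.sum_range_succ, if_pos (even_two_mul j)]
    exact lt_of_lt_of_eq (Nat.mul_lt_mul_of_le_of_lt (key j) (sub_one_lt hq _) (Nat.pow_pos (by omega)))
      (by rw [← pow_add])

theorem exists_exp {p f e q : ℕ} (hp : p.Prime) (he : e ≠ 0) (h : q ^ e = p ^ f) : ∃ j, q = p ^ j := by
  obtain ⟨j, -, hj⟩ := (Nat.dvd_prime_pow hp).1 (h ▸ dvd_pow_self q he)
  exact ⟨j, hj⟩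

theorem exp_ne_zero {p j q : ℕ} (hq : q = p ^ j) (h2 : 2 ≤ q) : j ≠ 0 := by
  rintro rfl
  rw [pow_zero] at hq
  omega

end CfsgLib.Lie.OrderBound
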