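import Cfsg.Prelude.Def_LieTypeChar
import Cfsg.Agent.Lib.Lie.OrderBound
import Cfsg.Agent.Lib.Sp.Basic
import Cfsg.Agent.S0243
import Cfsg.Agent.S0245
import Cfsg.Agent.S0280
import Cfsg.Agent.S0292
import Cfsg.Agent.S0293
import Cfsg.Agent.S0294
import Cfsg.Agent.S1059
import Cfsg.Agent.S1062
import Cfsg.Agent.S1063
import Cfsg.Agent.S1064
import Cfsg.Agent.S1065
import Cfsg.Agent.S1066
import Cfsg.Agent.S1067
import Cfsg.Agent.S1068
import Cfsg.Agent.S1069
import Cfsg.Agent.S1163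

/-!
# The order of a group of Lie type against its part in the characteristic
-/

set_option autoImplicit false
set_option linter.unusedSectionVars false

namespace CfsgLib.Lie.OrderBound

open Cfsg

variable {F : Type} [Field F] [Fintype F] {p : ℕ}

theorem char_pow [CharP F p] : ∃ f : ℕ, p.Prime ∧ f ≠ 0 ∧ Fintype.card F = p ^ f := by
  obtain ⟨n, hp, h⟩ := FiniteField.card F p
  exact ⟨n, hp, n.ne_zero, h⟩

theorem base_pow [CharP F p] {e q : ℕ} (he : e ≠ 0) (hF : Fintype.card F = q ^ e) :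
    ∃ f : ℕ, p.Prime ∧ f ≠ 0 ∧ q = p ^ f ∧ 2 ≤ q := by
  obtain ⟨f, hp, hf, h⟩ := char_pow (F := F) (p := p)
  obtain ⟨j, hj⟩ := exists_exp hp he (hF ▸ h : q ^ e = p ^ f)
  have hq2 : 2 ≤ q := by
    by_contra hc
    have h1 : 2 ≤ Fintype.card F := Fintype.one_lt_card
    have : q ^ e ≤ 1 ^ e := Nat.pow_le_pow_left (by omega) e
    rw [one_pow] at this
    omega
  exact ⟨j, hp, exp_ne_zero hj hq2, hj, hq2⟩

theorem two_le_card : 2 ≤ Fintype.card F := Fintype.one_lt_card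

theorem psl_big [CharP F p] {n : ℕ} (hn : 3 ≤ n) :
    Big p (Nat.card (Matrix.ProjectiveSpecialLinearGroup (Fin n) F)) := by
  obtain ⟨f, hp, hf, hq⟩ := char_pow (F := F) (p := p)
  have h2 := two_le_card (F := F)
  set q := Fintype.card F with hqd
  have h := Cfsg.Agent.S0243.result (F := F) rfl n (by omega)
  obtain ⟨k, rfl⟩ : ∃ k, n = k + 1 := ⟨n - 1, by omega⟩
  have hprod : ∏ i : Fin (k + 1), (q ^ (k + 1) - q ^ (i : ℕ)) =
      q ^ (∑ i ∈ Finset.range (k + 1), i) * ((∏ i ∈ Finset.range k, (q ^ (i + 2) - 1)) * (q - 1)) := by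
    rw [Fin.prod_univ_eq_prod_range (fun i => q ^ (k + 1) - q ^ i) (k + 1),
      Finset.prod_congr rfl (g := fun i => q ^ i * (q ^ (k + 1 - i) - 1)) fun i hi => by
        rw [Nat.mul_sub, mul_one, ← pow_add, Nat.add_sub_cancel' (Finset.mem_range.1 hi).le],
      Finset.prod_mul_distrib, Finset.prod_pow_eq_pow_sum]
    congr 1
    rw [← Finset.prod_range_reflect (fun i => q ^ (k + 1 - i) - 1) (k + 1), Finset.prod_range_succ']
    congr 1
    · refine Finset.prod_congr rfl fun i hi => ?_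
      have := Finset.mem_range.1 hi
      show q ^ (k + 1 - (k + 1 - 1 - (i + 1))) - 1 = q ^ (i + 2) - 1
      congr 2
      omega
    · simp
  rw [hprod] at h
  have hd : 0 < q - 1 := by omega
  have h' : Nat.gcd (k + 1) (q - 1) * Nat.card (Matrix.ProjectiveSpecialLinearGroup (Fin (k + 1)) F) =
      q ^ (∑ i ∈ Finset.range (k + 1), i) * ∏ i ∈ Finset.range k, (q ^ (i + 2) - 1) := by
    apply Nat.eq_of_mul_eq_mul_left hd
    rw [mul_left_comm, h]
    ring
  have hS := Finset.sum_range_id_mul_two (k + 1)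
  have hT := sum_from_two k
  rw [Nat.add_sub_cancel] at hS
  refine big_of (E := ∑ i ∈ Finset.range k, (i + 2)) hp hq h' (ndvd_prod hp _ _ fun i _ => ndvd_sub_one hp hf hq (by omega))
    (ndvd_of_dvd (Nat.gcd_dvd_right _ _) (by simpa using ndvd_sub_one hp hf hq one_ne_zero)) ?_
    (by nlinarith) (by nlinarith)
  obtain ⟨j, rfl⟩ : ∃ j, k = j + 1 := ⟨k - 1, by omega⟩
  rw [Finset.prod_range_succ, Finset.sum_range_succ, pow_add q (∑ i ∈ Finset.range j, (i + 2))]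
  exact Nat.mul_lt_mul_of_le_of_lt (prod_sub_one_le h2 (fun i => i + 2) j) (sub_one_lt h2 _) (Nat.pow_pos (by omega))

theorem psl_two [CharP F p] :
    Nat.card (Matrix.ProjectiveSpecialLinearGroup (Fin 2) F) <
        p ^ (3 * (Nat.card (Matrix.ProjectiveSpecialLinearGroup (Fin 2) F)).factorization p) ∧
      Fintype.card F = p ^ (Nat.card (Matrix.ProjectiveSpecialLinearGroup (Fin 2) F)).factorization p := by
  obtain ⟨f, hp, hf, hq⟩ := char_pow (F := F) (p := p)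
  have h2 := two_le_card (F := F)
  set q := Fintype.card F with hqd
  have h := Cfsg.Agent.S0243.result (F := F) rfl 2 le_rfl
  rw [Fin.prod_univ_two] at h
  simp only [Fin.val_zero, Fin.val_one, pow_zero, pow_one] at h
  have e : q ^ 2 - q = (q - 1) * q := by rw [Nat.sub_mul, one_mul, sq]
  rw [e, mul_left_comm, mul_left_comm (q ^ 2 - 1) (q - 1) q, mul_comm (q ^ 2 - 1) q] at h
  have h' : Nat.gcd 2 (q - 1) * Nat.card (Matrix.ProjectiveSpecialLinearGroup (Fin 2) F) = q ^ 1 * (q ^ 2 - 1) := by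
    rw [pow_one]; exact Nat.eq_of_mul_eq_mul_left (by omega) h
  have hd : ¬ p ∣ Nat.gcd 2 (q - 1) :=
    ndvd_of_dvd (Nat.gcd_dvd_right _ _) (by simpa using ndvd_sub_one hp hf hq one_ne_zero)
  rw [factorization_eq hp hq h' (ndvd_sub_one hp hf hq two_ne_zero) hd, mul_one]
  refine ⟨lt_of_le_of_lt (le_of_mul_eq h' hd) ?_, hq⟩
  rw [mul_comm 3 f, pow_mul, ← hq, pow_one, pow_succ' q 2]
  exact Nat.mul_lt_mul_of_pos_left (sub_one_lt h2 2) (by omega)

theorem psp_big [CharP F p] {m : ℕ} (hm : 2 ≤ m) : Big p (Nat.card (Cfsg.PSp m F)) := by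
  obtain ⟨f, hp, hf, hq⟩ := char_pow (F := F) (p := p)
  have h2 := two_le_card (F := F)
  set q := Fintype.card F with hqd
  have h := Cfsg.Agent.S0245.result (F := F) rfl m
  rw [Subgroup.card_eq_card_quotient_mul_card_subgroup (Subgroup.center (Matrix.symplecticGroup (Fin m) F)),
    mul_comm] at h
  have hd : ¬ p ∣ Nat.card ↥(Subgroup.center (Matrix.symplecticGroup (Fin m) F)) := by
    intro hd
    haveI := Fact.mk hp
    obtain ⟨z, hz⟩ := exists_prime_orderOf_dvd_card' p hd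
    have hz1 : z ≠ 1 := fun e => hp.one_lt.ne' (by rw [← hz, e, orderOf_one])
    have hz2 : (z : Matrix.symplecticGroup (Fin m) F).1 = -1 :=
      (CfsgLib.Sp.center_scalar (by omega) fun v _ =>
        ((Subgroup.mem_center_iff.1 z.2) _).symm).resolve_left fun e => hz1 (Subtype.ext (Subtype.ext e))
    have hsq : z ^ 2 = 1 := by
      refine Subtype.ext (Subtype.ext ?_)
      rw [sq]
      show (z : Matrix.symplecticGroup (Fin m) F).1 * (z : Matrix.symplecticGroup (Fin m) F).1 = 1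
      rw [hz2, neg_mul_neg, one_mul]
    have hp2 : p = 2 := (Nat.prime_dvd_prime_iff_eq hp Nat.prime_two).1 (hz ▸ orderOf_dvd_of_pow_eq_one hsq)
    subst hp2
    refine hz1 (Subtype.ext (Subtype.ext ?_))
    rw [hz2]
    ext i j
    exact CharTwo.neg_eq _
  obtain ⟨j, rfl⟩ : ∃ j, m = j + 1 := ⟨m - 1, by omega⟩
  refine big_of (E := (j + 1) * (j + 1 + 1)) hp hq h (ndvd_prod hp _ _ fun i _ => ndvd_sub_one hp hf hq (by omega)) hd ?_
    (by nlinarith) (by nlinarith)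
  rw [← sum_even, Finset.prod_range_succ, Finset.sum_range_succ, pow_add]
  exact Nat.mul_lt_mul_of_le_of_lt (prod_sub_one_le h2 (fun i => 2 * (i + 1)) j) (sub_one_lt h2 _)
    (Nat.pow_pos (by omega))

theorem psu_big [CharP F p] {n q : ℕ} (hn : 3 ≤ n) (hF : Fintype.card F = q ^ 2) :
    Big p (Nat.card (Cfsg.PSU n F q)) := by
  obtain ⟨f, hp, hf, hq, h2⟩ := base_pow (F := F) (p := p) two_ne_zero hF
  have h := Cfsg.Agent.S0280.result (F := F) hF n (by omega)
  obtain ⟨k, rfl⟩ : ∃ k, n = k + 1 := ⟨n - 1, by omega⟩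
  rw [Finset.prod_range_succ', if_pos Even.zero, zero_add, pow_one,
    Finset.prod_congr rfl (g := fun i => if Even i then q ^ (i + 2) - 1 else q ^ (i + 2) + 1) fun i _ => by
      by_cases hi : Even i <;> simp [hi, parity_simps]] at h
  have h' : Nat.gcd (k + 1) (q + 1) * Nat.card (Cfsg.PSU (k + 1) F q) =
      q ^ ((k + 1) * k / 2) * ∏ i ∈ Finset.range k, (if Even i then q ^ (i + 2) - 1 else q ^ (i + 2) + 1) := by
    apply Nat.eq_of_mul_eq_mul_left (show 0 < q + 1 by omega)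
    rw [mul_left_comm, h, Nat.add_sub_cancel]
    ring
  refine big_of (E := ∑ i ∈ Finset.range k, (i + 2)) hp hq h' (ndvd_prod hp _ _ fun i _ => ?_)
    (ndvd_of_dvd (Nat.gcd_dvd_right _ _) (by simpa using ndvd_add_one hp hf hq one_ne_zero))
    (unitary_lt h2 k (by omega)) ?_ ?_
  · split_ifs
    exacts [ndvd_sub_one hp hf hq (by omega), ndvd_add_one hp hf hq (by omega)]
  all_goals
    have hT := sum_from_two k
    have hS : (k + 1) * k / 2 * 2 = (k + 1) * k :=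
      Nat.div_mul_cancel (by rw [mul_comm]; exact (Nat.even_mul_succ_self k).two_dvd)
    nlinarith

theorem pomega_odd_big [CharP F p] {m : ℕ} (hm : 3 ≤ m) (hodd : Odd (Fintype.card F)) :
    Big p (Nat.card (Cfsg.POmega F (Cfsg.quadFormOdd m F))) := by
  obtain ⟨f, hp, hf, hq⟩ := char_pow (F := F) (p := p)
  have h2 := two_le_card (F := F)
  have h := Cfsg.Agent.S0292.result (F := F) rfl hodd m hm
  have hd : ¬ p ∣ 2 := fun hd => by
    obtain rfl : p = 2 := (Nat.prime_dvd_prime_iff_eq hp Nat.prime_two).1 hd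
    rw [hq, Nat.odd_pow_iff hf] at hodd
    exact Nat.not_odd_iff_even.2 even_two hodd
  obtain ⟨j, rfl⟩ : ∃ j, m = j + 1 := ⟨m - 1, by omega⟩
  refine big_of (E := (j + 1) * (j + 1 + 1)) hp hq h (ndvd_prod hp _ _ fun i _ => ndvd_sub_one hp hf hq (by omega)) hd ?_
    (by nlinarith) (by nlinarith)
  rw [← sum_even, Finset.prod_range_succ, Finset.sum_range_succ, pow_add]
  exact Nat.mul_lt_mul_of_le_of_lt (prod_sub_one_le h2 (fun i => 2 * (i + 1)) j) (sub_one_lt h2 _)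
    (Nat.pow_pos (by omega))

theorem pomega_plus_big [CharP F p] {m : ℕ} (hm : 4 ≤ m) :
    Big p (Nat.card (Cfsg.POmega F (Cfsg.quadFormPlus m F))) := by
  obtain ⟨f, hp, hf, hq⟩ := char_pow (F := F) (p := p)
  have h2 := two_le_card (F := F)
  have h := Cfsg.Agent.S0293.result (F := F) rfl m hm
  rw [mul_assoc] at h
  obtain ⟨j, rfl⟩ : ∃ j, m = j + 1 := ⟨m - 1, by omega⟩
  rw [Nat.add_sub_cancel] at h
  refine big_of (E := (j + 1) + j * (j + 1)) hp hq h
    (ndvd_mul hp (ndvd_sub_one hp hf hq (by omega)) (ndvd_prod hp _ _ fun i _ => ndvd_sub_one hp hf hq (by omega)))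
    (ndvd_of_dvd (Nat.gcd_dvd_right _ _) (ndvd_sub_one hp hf hq (by omega))) ?_ (by nlinarith) (by nlinarith)
  rw [← sum_even, pow_add (Fintype.card F) (j + 1) (∑ i ∈ Finset.range j, 2 * (i + 1))]
  exact lt_of_le_of_lt (Nat.mul_le_mul_left _ (prod_sub_one_le h2 (fun i => 2 * (i + 1)) j))
    (Nat.mul_lt_mul_of_pos_right (sub_one_lt h2 _) (Nat.pow_pos Fintype.card_pos))

theorem pomega_minus_big [CharP F p] {m : ℕ} (hm : 4 ≤ m) (a b : F)
    (hab : ∀ z₁ z₂ : F, z₁ ^ 2 + a * z₁ * z₂ + b * z₂ ^ 2 = 0 → z₁ = 0 ∧ z₂ = 0) :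
    Big p (Nat.card (Cfsg.POmega F (Cfsg.quadFormMinus (m - 1) F a b))) := by
  obtain ⟨f, hp, hf, hq⟩ := char_pow (F := F) (p := p)
  have h2 := two_le_card (F := F)
  set q := Fintype.card F with hqd
  have h := Cfsg.Agent.S0294.result (F := F) rfl m hm a b hab
  rw [mul_assoc] at h
  obtain ⟨j, rfl⟩ : ∃ j, m = j + 1 := ⟨m - 1, by omega⟩
  rw [Nat.add_sub_cancel] at h ⊢
  refine big_of (E := (j + 1) + j * (j + 1)) hp hq h
    (ndvd_mul hp (ndvd_add_one hp hf hq (by omega)) (ndvd_prod hp _ _ fun i _ => ndvd_sub_one hp hf hq (by omega)))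
    (ndvd_of_dvd (Nat.gcd_dvd_right _ _) (ndvd_add_one hp hf hq (by omega))) ?_ (by nlinarith) (by nlinarith)
  obtain ⟨i, rfl⟩ : ∃ i, j = i + 1 := ⟨j - 1, by omega⟩
  rw [← sum_even, Finset.prod_range_succ', Finset.sum_range_succ']
  calc (q ^ (i + 1 + 1) + 1) * ((∏ k ∈ Finset.range i, (q ^ (2 * (k + 1 + 1)) - 1)) * (q ^ (2 * (0 + 1)) - 1))
      = (∏ k ∈ Finset.range i, (q ^ (2 * (k + 1 + 1)) - 1)) * ((q ^ (i + 1 + 1) + 1) * (q ^ (2 * (0 + 1)) - 1)) := by ring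
    _ < q ^ (∑ k ∈ Finset.range i, 2 * (k + 1 + 1)) * q ^ (i + 1 + 1 + 2 * (0 + 1)) :=
        Nat.mul_lt_mul_of_le_of_lt (prod_sub_one_le h2 (fun k => 2 * (k + 1 + 1)) i) (pair_lt' h2 (by omega))
          (Nat.pow_pos (by omega))
    _ = _ := by rw [← pow_add]; congr 1; ring

theorem chev_big [CharP F p] {G : Type*} [Group G]
    (hG : (3 ≤ Fintype.card F ∧ Nonempty (G ≃* Lie.chevG2.group F)) ∨ Nonempty (G ≃* Lie.chevF4.group F) ∨
      Nonempty (G ≃* Lie.chevE6.group F) ∨ Nonempty (G ≃* Lie.chevE7.group F) ∨ Nonempty (G ≃* Lie.chevE8.group F)) :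
    Big p (Nat.card G) := by
  obtain ⟨f, hp, hf, hq⟩ := char_pow (F := F) (p := p)
  have h2 := two_le_card (F := F)
  set q := Fintype.card F with hqd
  have nd := fun e (he : e ≠ 0) => ndvd_sub_one hp hf hq he
  have lt := fun e => sub_one_lt h2 e
  have ndg : ∀ d, ¬ p ∣ Nat.gcd d (q - 1) := fun d =>
    ndvd_of_dvd (Nat.gcd_dvd_right _ _) (by simpa using nd 1 one_ne_zero)
  have h1 : ¬ p ∣ 1 := hp.not_dvd_one
  rcases hG with ⟨-, ⟨e⟩⟩ | ⟨⟨e⟩⟩ | ⟨⟨e⟩⟩ | ⟨⟨e⟩⟩ | ⟨⟨e⟩⟩ <;> rw [Nat.card_congr e.toEquiv]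
  · have h := Cfsg.Agent.S1059.result (F := F) rfl
    rw [← one_mul (Nat.card _)] at h
    simp only [mul_assoc] at h
    exact big_of (E := 2 + 6) hp hq h (ndvd_mul hp (nd 2 (by norm_num)) (nd 6 (by norm_num))) h1
      (by rw [pow_add]; exact Nat.mul_lt_mul_of_lt_of_lt (lt 2) (lt 6)) (by norm_num) (by norm_num)
  · have h := Cfsg.Agent.S1062.result (F := F) rfl
    rw [← one_mul (Nat.card _)] at h
    simp only [mul_assoc] at h
    refine big_of (E := 2 + (6 + (8 + 12))) hp hq h (by repeat first | exact nd _ (by norm_num) | apply ndvd_mul hp) h1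
      ?_ (by norm_num) (by norm_num)
    simp only [pow_add]
    repeat first | exact lt _ | apply Nat.mul_lt_mul_of_lt_of_lt
  · have h := Cfsg.Agent.S1063.result (F := F) rfl
    simp only [mul_assoc] at h
    refine big_of (E := 2 + (5 + (6 + (8 + (9 + 12))))) hp hq h
      (by repeat first | exact nd _ (by norm_num) | apply ndvd_mul hp) (ndg 3) ?_ (by norm_num) (by norm_num)
    simp only [pow_add]
    repeat first | exact lt _ | apply Nat.mul_lt_mul_of_lt_of_lt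
  · have h := Cfsg.Agent.S1064.result (F := F) rfl
    simp only [mul_assoc] at h
    refine big_of (E := 2 + (6 + (8 + (10 + (12 + (14 + 18)))))) hp hq h
      (by repeat first | exact nd _ (by norm_num) | apply ndvd_mul hp) (ndg 2) ?_ (by norm_num) (by norm_num)
    simp only [pow_add]
    repeat first | exact lt _ | apply Nat.mul_lt_mul_of_lt_of_lt
  · have h := Cfsg.Agent.S1065.result (F := F) rfl
    rw [← one_mul (Nat.card _)] at h
    simp only [mul_assoc] at h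
    refine big_of (E := 2 + (8 + (12 + (14 + (18 + (20 + (24 + 30))))))) hp hq h
      (by repeat first | exact nd _ (by norm_num) | apply ndvd_mul hp) h1 ?_ (by norm_num) (by norm_num)
    simp only [pow_add]
    repeat first | exact lt _ | apply Nat.mul_lt_mul_of_lt_of_lt

theorem tw_big [CharP F p] {q : ℕ} (hpp : IsPrimePow q) {G : Type*} [Group G]
    (hG : (Fintype.card F = q ^ 2 ∧ Nonempty (G ≃* Lie.twistedE6 F q)) ∨
      (Fintype.card F = q ^ 3 ∧ Nonempty (G ≃* Lie.twistedD4 F q))) : Big p (Nat.card G) := by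
  rcases hG with ⟨hF, ⟨e⟩⟩ | ⟨hF, ⟨e⟩⟩ <;> rw [Nat.card_congr e.toEquiv]
  · obtain ⟨f, hp, hf, hq, h2⟩ := base_pow (F := F) (p := p) two_ne_zero hF
    have nd := fun e (he : e ≠ 0) => ndvd_sub_one hp hf hq he
    have na := fun e (he : e ≠ 0) => ndvd_add_one hp hf hq he
    have h := Cfsg.Agent.S1066.result hpp hF
    have h' : Nat.gcd 3 (q + 1) * Nat.card ↥(Lie.twistedE6 F q) = q ^ 36 *
        (((q ^ 5 + 1) * (q ^ 2 - 1)) * (((q ^ 9 + 1) * (q ^ 8 - 1)) * ((q ^ 6 - 1) * (q ^ 12 - 1)))) := by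
      rw [h]; ring
    refine big_of (E := (5 + 2) + ((9 + 8) + (6 + 12))) hp hq h'
      (by repeat first | exact nd _ (by norm_num) | exact na _ (by norm_num) | apply ndvd_mul hp)
      (ndvd_of_dvd (Nat.gcd_dvd_right _ _) (by simpa using na 1 one_ne_zero)) ?_ (by norm_num) (by norm_num)
    rw [pow_add q (5 + 2), pow_add q (9 + 8), pow_add q 6 12]
    exact Nat.mul_lt_mul_of_lt_of_lt (pair_lt' h2 (by norm_num))
      (Nat.mul_lt_mul_of_lt_of_lt (pair_lt' h2 (by norm_num))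
        (Nat.mul_lt_mul_of_lt_of_lt (sub_one_lt h2 6) (sub_one_lt h2 12)))
  · obtain ⟨f, hp, hf, hq, h2⟩ := base_pow (F := F) (p := p) three_ne_zero hF
    have nd := fun e (he : e ≠ 0) => ndvd_sub_one hp hf hq he
    have h := Cfsg.Agent.S1067.result hpp hF
    rw [← one_mul (Nat.card _)] at h
    simp only [mul_assoc] at h
    have hlast : ¬ p ∣ q ^ 8 + q ^ 4 + 1 := fun hd => hp.not_dvd_one ((Nat.dvd_add_right
      (dvd_add ((hq ▸ dvd_pow_self p hf).trans (dvd_pow_self q (by norm_num)))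
        ((hq ▸ dvd_pow_self p hf).trans (dvd_pow_self q (by norm_num))))).1 hd)
    refine big_of (E := 6 + 10) hp hq h (ndvd_mul hp (nd 2 (by norm_num)) (ndvd_mul hp (nd 6 (by norm_num)) hlast))
      hp.not_dvd_one ?_ (by norm_num) (by norm_num)
    rw [mul_left_comm, pow_add]
    refine Nat.mul_lt_mul_of_lt_of_lt (sub_one_lt h2 6) ?_
    have h4 : 4 ≤ q ^ 2 := le_trans (by norm_num) (Nat.pow_le_pow_left h2 2)
    obtain ⟨x, hx⟩ : ∃ x, q ^ 2 = x + 1 := ⟨q ^ 2 - 1, by omega⟩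
    rw [show q ^ 8 = (q ^ 2) ^ 4 by ring, show q ^ 4 = (q ^ 2) ^ 2 by ring, show q ^ 10 = (q ^ 2) ^ 5 by ring, hx,
      Nat.add_sub_cancel]
    ring_nf
    nlinarith [Nat.zero_le (x ^ 2), Nat.zero_le (x ^ 3), Nat.zero_le (x ^ 4)]

theorem suz_big {m : ℕ} (hm : 1 ≤ m) (hF : Fintype.card F = 2 ^ (2 * m + 1)) :
    Big 2 (Nat.card ↥(Lie.Sz F (2 ^ (m + 1)))) := by
  have hp := Nat.prime_two
  have hf : 2 * m + 1 ≠ 0 := by omega
  have h := (Cfsg.Agent.S1163.result hm hF).1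
  set q := 2 ^ (2 * m + 1) with hq
  have h2 : 2 ≤ q := Nat.le_self_pow hf 2
  have h' : 1 * Nat.card ↥(Lie.Sz F (2 ^ (m + 1))) = q ^ 2 * ((q ^ 2 + 1) * (q ^ 1 - 1)) := by
    rw [one_mul, h, pow_one]; ring
  refine big_of (E := 2 + 1) hp hq h' ?_ hp.not_dvd_one ?_ (by norm_num) (by norm_num)
  · exact ndvd_mul hp (ndvd_add_one hp hf hq two_ne_zero) (ndvd_sub_one hp hf hq one_ne_zero)
  · exact pair_lt' h2 one_lt_two

theorem f4_big {m : ℕ} (hF : Fintype.card F = 2 ^ (2 * m + 1)) :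
    Big 2 (Nat.card ↥(Lie.twistedF4 F (2 ^ m))) := by
  have hp := Nat.prime_two
  have hf : 2 * m + 1 ≠ 0 := by omega
  have h := Cfsg.Agent.S1068.result hF
  set q := 2 ^ (2 * m + 1) with hq
  have h2 : 2 ≤ q := Nat.le_self_pow hf 2
  have h' : 1 * Nat.card ↥(Lie.twistedF4 F (2 ^ m)) = q ^ 12 * (((q ^ 3 + 1) * (q ^ 1 - 1)) * ((q ^ 6 + 1) * (q ^ 4 - 1))) := by
    rw [one_mul, h, pow_one]; ring
  refine big_of (E := (3 + 1) + (6 + 4)) hp hq h'
    (by repeat first | exact ndvd_sub_one hp hf hq (by norm_num) | exact ndvd_add_one hp hf hq (by norm_num) | apply ndvd_mul hp)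
    hp.not_dvd_one ?_ (by norm_num) (by norm_num)
  rw [pow_add q (3 + 1)]
  exact Nat.mul_lt_mul_of_lt_of_lt (pair_lt' h2 (by norm_num)) (pair_lt' h2 (by norm_num))

theorem g2_big {m : ℕ} (hF : Fintype.card F = 3 ^ (2 * m + 1)) :
    Big 3 (Nat.card ↥(Lie.twistedG2 F (3 ^ m))) := by
  have hp := Nat.prime_three
  have hf : 2 * m + 1 ≠ 0 := by omega
  have h := Cfsg.Agent.S1069.result hF
  set q := 3 ^ (2 * m + 1) with hq
  have h2 : 2 ≤ q := le_trans (by norm_num) (Nat.le_self_pow hf 3)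
  have h' : 1 * Nat.card ↥(Lie.twistedG2 F (3 ^ m)) = q ^ 3 * ((q ^ 3 + 1) * (q ^ 1 - 1)) := by
    rw [one_mul, h, pow_one]; ring
  exact big_of (E := 3 + 1) hp hq h'
    (ndvd_mul hp (ndvd_add_one hp hf hq (by norm_num)) (ndvd_sub_one hp hf hq one_ne_zero))
    hp.not_dvd_one (pair_lt' h2 (by norm_num)) (by norm_num) (by norm_num)

theorem main {G : Type*} [Group G] (p : ℕ) (hG : Cfsg.IsLieTypeChar p G) :
    Nat.card G < p ^ (3 * (Nat.card G).factorization p) ∧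
      ((¬ ∃ (F : Type) (_ : Field F) (_ : Fintype F), Fintype.card F = p ^ (Nat.card G).factorization p ∧
          Nonempty (G ≃* Matrix.ProjectiveSpecialLinearGroup (Fin 2) F)) →
        Nat.card G ^ 3 < p ^ (8 * (Nat.card G).factorization p)) := by
  have fin : Big p (Nat.card G) → Nat.card G < p ^ (3 * (Nat.card G).factorization p) ∧
      ((¬ ∃ (F : Type) (_ : Field F) (_ : Fintype F), Fintype.card F = p ^ (Nat.card G).factorization p ∧
          Nonempty (G ≃* Matrix.ProjectiveSpecialLinearGroup (Fin 2) F)) →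
        Nat.card G ^ 3 < p ^ (8 * (Nat.card G).factorization p)) := fun h => ⟨h.1, fun _ => h.2⟩
  rcases hG with ⟨F, i1, i2, i3, n, hn, -, ⟨e⟩⟩ | ⟨F, i1, i2, i3, m, hm, -, ⟨e⟩⟩ |
    ⟨F, i1, i2, i3, n, q, hF, hn, -, ⟨e⟩⟩ | ⟨F, i1, i2, i3, m, hm, hodd, ⟨e⟩⟩ | ⟨F, i1, i2, i3, m, hm, ⟨e⟩⟩ |
    ⟨F, i1, i2, i3, m, a, b, hm, hab, ⟨e⟩⟩ | ⟨F, i1, i2, i3, h⟩ | ⟨F, i1, i2, i3, q, hq, h⟩ |
    ⟨rfl, F, i1, i2, m, hm, hF, ⟨e⟩⟩ | ⟨rfl, F, i1, i2, m, -, hF, ⟨e⟩⟩ | ⟨rfl, F, i1, i2, m, -, hF, ⟨e⟩⟩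
  · rcases eq_or_lt_of_le hn with rfl | h3
    · obtain ⟨a, b⟩ := psl_two (F := F) (p := p)
      rw [← Nat.card_congr e.toEquiv] at a b
      exact ⟨a, fun hno => absurd ⟨F, i1, i2, b, ⟨e⟩⟩ hno⟩
    · exact fin (by rw [Nat.card_congr e.toEquiv]; exact psl_big h3)
  · exact fin (by rw [Nat.card_congr e.toEquiv]; exact psp_big hm)
  · exact fin (by rw [Nat.card_congr e.toEquiv]; exact psu_big hn hF)
  · exact fin (by rw [Nat.card_congr e.toEquiv]; exact pomega_odd_big hm hodd)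
  · exact fin (by rw [Nat.card_congr e.toEquiv]; exact pomega_plus_big hm)
  · exact fin (by rw [Nat.card_congr e.toEquiv]; exact pomega_minus_big hm a b hab)
  · exact fin (chev_big h)
  · exact fin (tw_big hq h)
  · exact fin (by rw [Nat.card_congr e.toEquiv]; exact suz_big hm hF)
  · exact fin (by rw [Nat.card_congr e.toEquiv]; exact f4_big hF)
  · exact fin (by rw [Nat.card_congr e.toEquiv]; exact g2_big hF)

end CfsgLib.Lie.OrderBound
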