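import Cfsg.Agent.Lib.Qd.SubgroupSLTwo
import Cfsg.Agent.Lib.Lie.SL2Rel

/-!
# Minus the identity in a subgroup of `SL(2, F)` generated by an upper and a lower transvection
-/

set_option autoImplicit false
set_option linter.unusedSectionVars false

namespace CfsgLib.Lie.SL2Neg

open Matrix CfsgLib.Classical
open CfsgLib.Lie.SL2Rel (Fam val_mul')

variable {F : Type*} [Field F]

local notation "S2" => Matrix.SpecialLinearGroup (Fin 2) F

theorem eq_of_involution (h2 : (2 : F) ≠ 0) {i : S2} (hi : i * i = 1) : i = 1 ∨ i = -1 := by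
  have hd : i.1 0 0 * i.1 1 1 - i.1 0 1 * i.1 1 0 = 1 := by rw [← det_fin_two]; exact i.2
  have h00 : (i * i).1 0 0 = 1 := by rw [hi]; rfl
  have h01 : (i * i).1 0 1 = 0 := by rw [hi]; rfl
  have h10 : (i * i).1 1 0 = 0 := by rw [hi]; rfl
  simp [Matrix.mul_apply, Fin.sum_univ_two] at h00 h01 h10
  by_cases ht : i.1 0 0 + i.1 1 1 = 0
  · exact absurd (show (2 : F) = 0 by linear_combination (-1 : F) * hd - h00 + i.1 0 0 * ht) h2
  have hb : i.1 0 1 = 0 := (mul_eq_zero.1 (by linear_combination h01 : i.1 0 1 * (i.1 0 0 + i.1 1 1) = 0)).resolve_right ht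
  have hc : i.1 1 0 = 0 := (mul_eq_zero.1 (by linear_combination h10 : i.1 1 0 * (i.1 0 0 + i.1 1 1) = 0)).resolve_right ht
  rw [hb] at h00 hd
  simp at h00 hd
  rcases mul_self_eq_one_iff.1 h00 with e | e
  · left
    rw [e, one_mul] at hd
    ext a b; fin_cases a <;> fin_cases b <;> simp [e, hd, hb, hc]
  · right
    rw [e] at hd
    have hd' : i.1 1 1 = -1 := by linear_combination -hd
    ext a b; fin_cases a <;> fin_cases b <;> simp [e, hd', hb, hc]

theorem neg_one_mem [Fintype F] (p : ℕ) [Fact p.Prime] [CharP F p] (hp : p ≠ 2) {H : Subgroup S2} {c : F}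
    (hc : c ≠ 0) (hu : Fam.upper (1 : F) ∈ H) (hl : Fam.lower c ∈ H) : (-1 : S2) ∈ H := by
  classical
  by_cases hS : 1 < Nat.card (Sylow p H)
  · obtain ⟨K, hKH, ⟨e⟩⟩ := CfsgLib.Qd.exists_copy_of_two_sylows p hp H hS
    set i : K := e.symm (-1)
    have hi : i * i = 1 := by rw [← map_mul]; simp
    have hi1 : i ≠ 1 := by
      intro h
      have h1 : ((-1 : Matrix.SpecialLinearGroup (Fin 2) (ZMod p))) = 1 := by
        simpa [i] using congrArg e h
      have h2 := congrArg (fun x : Matrix.SpecialLinearGroup (Fin 2) (ZMod p) => x.1 0 0) h1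
      simp at h2
      have h3 : ((2 : ℕ) : ZMod p) = 0 := by push_cast; linear_combination -h2
      rw [ZMod.natCast_eq_zero_iff] at h3
      exact hp ((Nat.prime_dvd_prime_iff_eq Fact.out Nat.prime_two).1 h3)
    have h2F : (2 : F) ≠ 0 := fun h => by
      have h' : ((2 : ℕ) : F) = 0 := by exact_mod_cast h
      exact hp ((Nat.prime_dvd_prime_iff_eq Fact.out Nat.prime_two).1 ((CharP.cast_eq_zero_iff F p 2).1 h'))
    rcases eq_of_involution h2F (i := (i : S2)) (by rw [← Subgroup.coe_mul, hi]; rfl) with h | h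
    · exact absurd (Subtype.ext h) hi1
    · exact hKH (h ▸ i.2)
  · exfalso
    haveI : Subsingleton (Sylow p H) := by
      rw [← Finite.card_le_one_iff_subsingleton]; omega
    obtain ⟨P⟩ : Nonempty (Sylow p H) := inferInstance
    have hord : ∀ x : S2, x ^ p = 1 → ∀ hx : x ∈ H, (⟨x, hx⟩ : H) ∈ (P : Subgroup H) := by
      intro x hxp hx
      have hz : IsPGroup p (Subgroup.zpowers (⟨x, hx⟩ : H)) := by
        rintro ⟨y, hy⟩
        obtain ⟨m, rfl⟩ := hy
        refine ⟨1, Subtype.ext ?_⟩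
        rw [SubgroupClass.coe_pow, OneMemClass.coe_one, pow_one, ← zpow_natCast, ← _root_.zpow_mul, mul_comm, _root_.zpow_mul,
          zpow_natCast, show (⟨x, hx⟩ : H) ^ p = 1 from Subtype.ext hxp, _root_.one_zpow]
      obtain ⟨Q, hQ⟩ := hz.exists_le_sylow
      exact Subsingleton.elim Q P ▸ hQ (Subgroup.mem_zpowers _)
    have hadd : ∀ x y : F, Fam.upper x * Fam.upper y = Fam.upper (x + y) ∧
        Fam.lower x * Fam.lower y = Fam.lower (x + y) := by
      intro x y
      constructor <;> refine Subtype.ext ?_ <;> simp only [val_mul'] <;> ext a b <;>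
        fin_cases a <;> fin_cases b <;> simp [Fam.upper, Fam.lower, Matrix.mul_apply, Fin.sum_univ_two, add_comm]
    have h0 : Fam.upper (0 : F) = 1 ∧ Fam.lower (0 : F) = 1 := by
      constructor <;> refine Subtype.ext ?_ <;> ext a b <;> fin_cases a <;> fin_cases b <;> rfl
    have hpow : ∀ (t : F) (n : ℕ), (Fam.upper t) ^ n = Fam.upper ((n : F) * t) ∧
        (Fam.lower t) ^ n = Fam.lower ((n : F) * t) := by
      intro t n
      induction n with
      | zero => simp only [pow_zero, Nat.cast_zero, zero_mul, h0, and_self]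
      | succ n ih =>
        rw [pow_succ, pow_succ, ih.1, ih.2, (hadd _ _).1, (hadd _ _).2,
          show ((n + 1 : ℕ) : F) * t = (n : F) * t + t by push_cast; ring]
        exact ⟨rfl, rfl⟩
    have hp0 : ∀ t : F, (Fam.upper t) ^ p = 1 ∧ (Fam.lower t) ^ p = 1 := fun t => by
      rw [(hpow t p).1, (hpow t p).2, CharP.cast_eq_zero, zero_mul]
      exact h0
    obtain ⟨P₀, hP₀⟩ := (P.isPGroup'.map H.subtype).exists_le_sylow
    obtain ⟨g, hg⟩ := sl_sylow_conj p P₀
    have hu1 : Fam.upper (1 : F) ∈ (P₀ : Subgroup S2) := hP₀ ⟨_, hord _ (hp0 1).1 hu, rfl⟩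
    have hl1 : Fam.lower c ∈ (P₀ : Subgroup S2) := hP₀ ⟨_, hord _ (hp0 c).2 hl, rfl⟩
    have hu' := (hg _).1 hu1
    have hl' := (hg _).1 hl1
    set A := g⁻¹ * SpecialLinearGroup.toGL (Fam.upper (1 : F)) * g
    set B := g⁻¹ * SpecialLinearGroup.toGL (Fam.lower c) * g
    obtain ⟨a0, a1, a2⟩ := mem_upU.1 hu'
    obtain ⟨b0, b1, b2⟩ := mem_upU.1 hl'
    have hAB : A * B = B * A := by
      ext i j
      fin_cases i <;> fin_cases j <;> simp [Matrix.mul_apply, Fin.sum_univ_two, a0, a1, a2, b0, b1, b2] <;> ring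
    have h2 : SpecialLinearGroup.toGL (Fam.upper (1 : F)) * SpecialLinearGroup.toGL (Fam.lower c) =
        SpecialLinearGroup.toGL (Fam.lower c) * SpecialLinearGroup.toGL (Fam.upper (1 : F)) := by
      calc _ = g * (A * B) * g⁻¹ := by simp only [A, B]; group
        _ = g * (B * A) * g⁻¹ := by rw [hAB]
        _ = _ := by simp only [A, B]; group
    have h3 := congrArg (fun x : GL (Fin 2) F => x.1 0 0) h2
    change (((!![1, 1; 0, 1] : Matrix (Fin 2) (Fin 2) F) * (!![1, 0; c, 1] : Matrix (Fin 2) (Fin 2) F)) :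
      Matrix (Fin 2) (Fin 2) F) 0 0 = (((!![1, 0; c, 1] : Matrix (Fin 2) (Fin 2) F) *
        (!![1, 1; 0, 1] : Matrix (Fin 2) (Fin 2) F)) : Matrix (Fin 2) (Fin 2) F) 0 0 at h3
    simp [Matrix.mul_apply, Fin.sum_univ_two] at h3
    exact hc h3

end CfsgLib.Lie.SL2Neg
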